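import Mathlib
import Groth.Agent.Flat.GenericFree

/-!
A family of sections which is injective on every basic open of a Noetherian affine scheme stays
injective after tensoring with a flat module of finite type (EGA IV 11.10.5).
-/

open scoped TensorProduct

namespace SchDomBCLib

universe u

theorem eq_zero_of_killed {B : Type u} [CommRing B] {P : Ideal B} (g : B) (D : Type u) [CommRing D]
    [Algebra (B ⧸ P) D] [Algebra B D] [IsScalarTower B (B ⧸ P) D]
    [IsLocalization (Submonoid.powers (Ideal.Quotient.mk P g)) D]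
    {X : Type u} [AddCommGroup X] [Module B X] (hX : ∀ a ∈ P, ∀ x : X, a • x = 0) (x : X)
    (hx : (1 : D) ⊗ₜ[B] x = 0) : ∃ m : ℕ, g ^ m • x = 0 := by
  have h1 : Module.IsTorsionBySet B X (P : Set B) := fun x a => hX a a.2 x
  letI : Module (B ⧸ P) X := h1.module
  haveI : IsScalarTower B (B ⧸ P) X := h1.isScalarTower
  have h2 : (1 : D) ⊗ₜ[B ⧸ P] x = 0 := by
    have := congrArg (TensorProduct.mapOfCompatibleSMul (B ⧸ P) B B D X) hx
    simpa using this
  obtain ⟨⟨_, m, rfl⟩, hm⟩ := (IsLocalizedModule.eq_zero_iff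
    (Submonoid.powers (Ideal.Quotient.mk P g)) (TensorProduct.mk (B ⧸ P) D X 1)).1 h2
  refine ⟨m, ?_⟩
  have h3 : (Ideal.Quotient.mk P g) ^ m • x = 0 := hm
  rw [← map_pow, ← Ideal.Quotient.algebraMap_eq, algebraMap_smul] at h3
  exact h3

theorem exists_pow_smul_eq_one_tmul {B : Type u} [CommRing B] {P : Ideal B} (g : B) (D : Type u)
    [CommRing D] [Algebra (B ⧸ P) D] [Algebra B D] [IsScalarTower B (B ⧸ P) D]
    [IsLocalization (Submonoid.powers (Ideal.Quotient.mk P g)) D]
    {L : Type u} [AddCommGroup L] [Module B L] (v : D ⊗[B] L) :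
    ∃ (m : ℕ) (l : L), g ^ m • v = (1 : D) ⊗ₜ[B] l := by
  induction v using TensorProduct.induction_on with
  | zero => exact ⟨0, 0, by simp⟩
  | tmul d l =>
    obtain ⟨⟨b, ⟨_, m, rfl⟩⟩, h⟩ :=
      IsLocalization.surj (Submonoid.powers (Ideal.Quotient.mk P g)) d
    obtain ⟨b, rfl⟩ := Ideal.Quotient.mk_surjective b
    refine ⟨m, b • l, ?_⟩
    rw [TensorProduct.tmul_smul, TensorProduct.smul_tmul', TensorProduct.smul_tmul']
    congr 1
    rw [Algebra.smul_def, Algebra.smul_def, mul_one, IsScalarTower.algebraMap_apply B (B ⧸ P) D,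
      IsScalarTower.algebraMap_apply B (B ⧸ P) D b, mul_comm, map_pow]
    exact h
  | add v w hv hw =>
    obtain ⟨m, l, hl⟩ := hv
    obtain ⟨n, k, hk⟩ := hw
    refine ⟨m + n, g ^ n • l + g ^ m • k, ?_⟩
    rw [smul_add, TensorProduct.tmul_add, TensorProduct.tmul_smul, TensorProduct.tmul_smul,
      ← hl, ← hk, smul_smul, smul_smul]
    ring_nf

section Coord

variable {B : Type u} [CommRing B] (D : Type u) [CommRing D] [Algebra B D] {M : Type u}
  [AddCommGroup M] [Module B M] {κ : Type u} (e : Module.Basis κ D (D ⊗[B] M)) (X : Type u)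
  [AddCommGroup X] [Module B X]

/-- the coordinates of `x ⊗ m` in a basis of `D ⊗ M` -/
noncomputable def coords : X ⊗[B] M →ₗ[B] κ →₀ D ⊗[B] X :=
  TensorProduct.lift (LinearMap.mk₂ B
    (fun x m => (e.repr (1 ⊗ₜ[B] m)).mapRange (fun d => d • ((1 : D) ⊗ₜ[B] x)) (zero_smul D _))
    (fun x y m => by ext k; simp [TensorProduct.tmul_add, smul_add])
    (fun b x m => by
      ext k
      simp only [Finsupp.mapRange_apply, Finsupp.smul_apply]
      rw [TensorProduct.tmul_smul, smul_comm])
    (fun x m m' => by ext k; simp [TensorProduct.tmul_add, add_smul])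
    (fun b x m => by
      ext k
      simp only [Finsupp.mapRange_apply, Finsupp.smul_apply]
      rw [TensorProduct.tmul_smul, ← algebraMap_smul D b ((1 : D) ⊗ₜ[B] m), map_smul,
        Finsupp.smul_apply, smul_assoc, algebraMap_smul]))

theorem coords_tmul (x : X) (m : M) (k : κ) :
    coords D e X (x ⊗ₜ m) k = e.repr (1 ⊗ₜ[B] m) k • ((1 : D) ⊗ₜ[B] x) := by
  simp [coords]

theorem one_tmul_eq_zero_of_coords {u : X ⊗[B] M} (h : coords D e X u = 0) :
    (1 : D) ⊗ₜ[B] u = 0 := by
  let Φ : X → (D ⊗[B] M →ₗ[D] D ⊗[B] (X ⊗[B] M)) := fun x => (TensorProduct.mk B X M x).baseChange D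
  let hX : κ → (X →ₗ[B] D ⊗[B] (X ⊗[B] M)) := fun k =>
    { toFun := fun x => Φ x (e k)
      map_add' := fun x y => by
        simp only [Φ, map_add, LinearMap.baseChange_add, LinearMap.add_apply]
      map_smul' := fun b x => by
        simp only [Φ, map_smul, LinearMap.baseChange_smul, LinearMap.smul_apply, RingHom.id_apply] }
  let T : (κ →₀ D ⊗[B] X) →ₗ[D] D ⊗[B] (X ⊗[B] M) :=
    Finsupp.lsum D fun k => LinearMap.liftBaseChange D (hX k)
  have key : ∀ v, T (coords D e X v) = (1 : D) ⊗ₜ[B] v := by
    intro v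
    induction v using TensorProduct.induction_on with
    | zero => simp
    | add a b ha hb => simp only [map_add, ha, hb, TensorProduct.tmul_add]
    | tmul x m =>
      have h1 : coords D e X (x ⊗ₜ m) = (e.repr (1 ⊗ₜ[B] m)).mapRange
          (fun d => d • ((1 : D) ⊗ₜ[B] x)) (zero_smul D _) := by
        ext k; simp [coords_tmul]
      rw [h1]
      simp only [T, Finsupp.lsum_apply]
      rw [Finsupp.sum_mapRange_index (fun k => map_zero _)]
      have h2 : Φ x (1 ⊗ₜ[B] m) = (1 : D) ⊗ₜ[B] (x ⊗ₜ m) := by simp [Φ]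
      rw [← h2]
      conv_rhs => rw [← e.linearCombination_repr (1 ⊗ₜ[B] m)]
      rw [Finsupp.linearCombination_apply, map_finsuppSum]
      refine Finsupp.sum_congr fun k _ => ?_
      rw [map_smul, LinearMap.liftBaseChange_tmul, one_smul, map_smul]
      rfl
  rw [← key u, h, map_zero]

theorem coords_map {Y : Type u} [AddCommGroup Y] [Module B Y] (f : X →ₗ[B] Y) (u : X ⊗[B] M)
    (k : κ) : coords D e Y (f.rTensor M u) k = f.baseChange D (coords D e X u k) := by
  induction u using TensorProduct.induction_on with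
  | zero => simp
  | add a b ha hb => simp only [map_add, Finsupp.add_apply, ha, hb]
  | tmul x m => rw [LinearMap.rTensor_tmul, coords_tmul, coords_tmul, map_smul, LinearMap.baseChange_tmul]

end Coord

theorem eq_zero_of_flat {B : Type u} [CommRing B] [IsNoetherianRing B] {J : Type u}
    (C : J → Type u) [∀ j, AddCommGroup (C j)] [∀ j, Module B (C j)] (c : ∀ j, C j)
    (hdom : ∀ g b : B, (∀ j, ∃ m : ℕ, g ^ m • b • c j = 0) → ∃ m : ℕ, g ^ m * b = 0)
    (R : Type u) [CommRing R] [Algebra B R] [Algebra.FiniteType B R]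
    (M : Type u) [AddCommGroup M] [Module R M] [Module B M] [IsScalarTower B R M]
    [Module.Finite R M] [Module.Flat B M] (z : M)
    (hz : ∀ j, c j ⊗ₜ[B] z = 0) : z = 0 := by
  classical
  by_contra hz0
  haveI : IsNoetherianRing R := Algebra.FiniteType.isNoetherianRing B R
  obtain ⟨Q, hQ, -⟩ := exists_le_isAssociatedPrime_of_isNoetherianRing R
    (⟨z, Submodule.mem_span_singleton_self z⟩ : Submodule.span R {z})
    (fun h => hz0 (congrArg Subtype.val h))
  rw [isAssociatedPrime_iff] at hQ
  obtain ⟨hQp, ⟨y, hy⟩, hQy⟩ := hQ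
  obtain ⟨r, rfl⟩ := Submodule.mem_span_singleton.1 hy
  have hy0 : ∀ j, c j ⊗ₜ[B] (r • z) = 0 := by
    intro j
    let fr : M →ₗ[B] M := (LinearMap.lsmul R M r).restrictScalars B
    have := congrArg (fr.lTensor (C j)) (hz j)
    simpa [fr] using this
  have hann : ∀ s : R, s ∈ Q ↔ s • r • z = 0 := fun s => by
    rw [hQy, Submodule.mem_colon_singleton, Submodule.mem_bot]
    exact Subtype.ext_iff
  generalize r • z = z' at hy0 hann
  let P : Ideal B := Q.comap (algebraMap B R)
  haveI : P.IsPrime := Ideal.IsPrime.comap _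
  have hPz : ∀ a ∈ P, a • z' = 0 := fun a ha => by
    rw [← algebraMap_smul R a z']; exact (hann _).1 ha
  -- the annihilator of `P`
  obtain ⟨n, gens, hgens⟩ := Submodule.fg_iff_exists_fin_generating_family.1
    (IsNoetherian.noetherian (P : Submodule B B))
  let ψ : B →ₗ[B] (Fin n → B) := LinearMap.toSpanSingleton B _ gens
  let L : Submodule B B := LinearMap.ker ψ
  have hψz : ψ.rTensor M (1 ⊗ₜ z') = 0 := by
    rw [LinearMap.rTensor_tmul]
    simp only [ψ, LinearMap.toSpanSingleton_apply, one_smul]
    rw [pi_eq_sum_univ gens, TensorProduct.sum_tmul]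
    refine Finset.sum_eq_zero fun i _ => ?_
    rw [TensorProduct.smul_tmul, hPz (gens i) (hgens.le (Submodule.subset_span ⟨i, rfl⟩)),
      TensorProduct.tmul_zero]
  obtain ⟨w, hw⟩ := (Module.Flat.rTensor_exact M ψ.exact_subtype_ker_map _).1 hψz
  have hL : ∀ a ∈ P, ∀ l : L, a • l = 0 := by
    intro a ha l
    apply Subtype.ext
    show a * (l : B) = 0
    rw [← hgens] at ha
    induction ha using Submodule.span_induction with
    | mem x hx =>
      obtain ⟨i, rfl⟩ := hx
      have : (l : B) • gens i = 0 := congrFun (show (l : B) • gens = 0 from l.2) i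
      rwa [smul_eq_mul, mul_comm] at this
    | zero => exact zero_mul _
    | add x y _ _ hx hy => rw [add_mul, hx, hy, add_zero]
    | smul b x _ hx => rw [smul_eq_mul, mul_assoc, hx, mul_zero]
  -- generic freeness along `P`
  let S := (B ⧸ P) ⊗[B] R
  letI : Algebra R S := Algebra.TensorProduct.rightAlgebra
  haveI : IsScalarTower B R S := Algebra.TensorProduct.right_isScalarTower
  haveI : Algebra.IsPushout B R (B ⧸ P) S := Algebra.IsPushout.symm inferInstance
  obtain ⟨gb, hgb, hfree⟩ := Groth.Agent.Flat.GenericFree.freeAway_of_finite (R := B ⧸ P) S (S ⊗[R] M)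
  obtain ⟨g, rfl⟩ := Ideal.Quotient.mk_surjective gb
  have hgP : g ∉ P := fun h => hgb (Ideal.Quotient.eq_zero_iff_mem.2 h)
  let D := Localization.Away (Ideal.Quotient.mk P g)
  haveI := hfree D (IsLocalization.Away.algebraMap_isUnit _)
  haveI : Module.Free D (D ⊗[B] M) := Module.Free.of_equiv
    ((TensorProduct.AlgebraTensorModule.congr (LinearEquiv.refl D D)
      (Algebra.IsPushout.cancelBaseChange B (B ⧸ P) R S M)).trans
      (TensorProduct.AlgebraTensorModule.cancelBaseChange B (B ⧸ P) D D M))
  let e := Module.Free.chooseBasis D (D ⊗[B] M)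
  obtain ⟨k, hk⟩ : ∃ k, coords D e L w k ≠ 0 := by
    by_contra hall
    push Not at hall
    have h1 : coords D e L w = 0 := Finsupp.ext hall
    obtain ⟨m, hm⟩ := eq_zero_of_killed g D (X := L ⊗[B] M) (fun a ha x => by
      induction x using TensorProduct.induction_on with
      | zero => exact smul_zero _
      | add u v hu hv => rw [smul_add, hu, hv, add_zero]
      | tmul l m => rw [TensorProduct.smul_tmul', hL a ha, TensorProduct.zero_tmul]) w
      (one_tmul_eq_zero_of_coords D e L h1)
    have h2 := congrArg (TensorProduct.lid B M) (congrArg (L.subtype.rTensor M) hm)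
    rw [map_smul, map_smul, hw, TensorProduct.lid_tmul, one_smul, map_zero, map_zero,
      ← algebraMap_smul R (g ^ m) z'] at h2
    have h3 : g ^ m ∈ P := (hann _).2 h2
    exact hgP (Ideal.IsPrime.mem_of_pow_mem inferInstance m h3)
  obtain ⟨m, l, hml⟩ := exists_pow_smul_eq_one_tmul (P := P) g D (coords D e L w k)
  have hgu : IsUnit (algebraMap B D g) := by
    rw [IsScalarTower.algebraMap_apply B (B ⧸ P) D]
    exact IsLocalization.Away.algebraMap_isUnit _
  obtain ⟨j, hj⟩ : ∃ j, ∀ m' : ℕ, g ^ m' • (l : B) • c j ≠ 0 := by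
    by_contra hall
    push Not at hall
    obtain ⟨m', hm'⟩ := hdom g l hall
    apply hk
    have h0 : g ^ (m' + m) • coords D e L w k = 0 := by
      rw [pow_add, mul_smul, hml, TensorProduct.smul_tmul', TensorProduct.smul_tmul,
        show g ^ m' • l = 0 from Subtype.ext hm', TensorProduct.tmul_zero]
    rw [← algebraMap_smul D (g ^ (m' + m))] at h0
    exact ((hgu.pow (m' + m)).smul_eq_zero).1 (by rwa [← map_pow])
  let ι : L →ₗ[B] C j := (LinearMap.toSpanSingleton B (C j) (c j)).comp L.subtype
  have hιw : ι.rangeRestrict.rTensor M w = 0 := by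
    apply Module.Flat.rTensor_preserves_injective_linearMap (M := M) (LinearMap.range ι).subtype
      Subtype.val_injective
    rw [map_zero, ← LinearMap.comp_apply, ← LinearMap.rTensor_comp]
    show ((LinearMap.toSpanSingleton B (C j) (c j)).comp L.subtype).rTensor M w = 0
    rw [LinearMap.rTensor_comp, LinearMap.comp_apply, hw, LinearMap.rTensor_tmul]
    simpa using hy0 j
  have h4 : ((1 : D) ⊗ₜ[B] ι.rangeRestrict l : D ⊗[B] LinearMap.range ι) = 0 := by
    rw [← LinearMap.baseChange_tmul, ← hml, LinearMap.map_smul_of_tower, ← coords_map, hιw]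
    simp
  obtain ⟨m', hm'⟩ := eq_zero_of_killed g D (X := LinearMap.range ι) (fun a ha x => by
      obtain ⟨x', hx'⟩ := ι.surjective_rangeRestrict x
      rw [← hx', ← map_smul, hL a ha, map_zero]) _ h4
  exact hj m' (congrArg Subtype.val hm')

theorem flat_localizedModule {B R X : Type u} [CommRing B] [CommRing R] [Algebra B R]
    [AddCommGroup X] [Module R X] [Module B X] [IsScalarTower B R X] [Module.Flat B X]
    (S : Submonoid R) : Module.Flat B (LocalizedModule S X) := by
  rw [Module.Flat.iff_lTensor_injective']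
  intro K
  let g := LocalizedModule.mkLinearMap S X
  let i : X ⊗[B] K →ₗ[R] X ⊗[B] B := TensorProduct.AlgebraTensorModule.lTensor R X K.subtype
  let i' : LocalizedModule S X ⊗[B] K →ₗ[R] LocalizedModule S X ⊗[B] B :=
    TensorProduct.AlgebraTensorModule.lTensor R (LocalizedModule S X) K.subtype
  let gK := TensorProduct.AlgebraTensorModule.rTensor B K g
  let gB := TensorProduct.AlgebraTensorModule.rTensor B B g
  have hi : Function.Injective i :=
    Module.Flat.lTensor_preserves_injective_linearMap (M := X) K.subtype Subtype.val_injective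
  show Function.Injective i'
  have h := IsLocalizedModule.map_injective S gK gB i hi
  have h2 : IsLocalizedModule.map S gK gB i = i' := by
    apply IsLocalizedModule.ext S gK (IsLocalizedModule.map_units gB)
    rw [IsLocalizedModule.map_comp]
    ext x k
    simp [gK, gB, i, i']
  rwa [h2] at h

/-- Injectivity on a localization of a flat module of finite type. -/
theorem exists_pow_smul_eq_zero {B : Type u} [CommRing B] [IsNoetherianRing B] {J : Type u}
    (C : J → Type u) [∀ j, AddCommGroup (C j)] [∀ j, Module B (C j)] (c : ∀ j, C j)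
    (hdom : ∀ g b : B, (∀ j, ∃ m : ℕ, g ^ m • b • c j = 0) → ∃ m : ℕ, g ^ m * b = 0)
    (R : Type u) [CommRing R] [Algebra B R] [Algebra.FiniteType B R]
    (M : Type u) [AddCommGroup M] [Module R M] [Module B M] [IsScalarTower B R M]
    [Module.Finite R M] [Module.Flat B M] (f : R) (z : M)
    (hz : ∀ j, ∃ m : ℕ, c j ⊗ₜ[B] (f ^ m • z) = 0) : ∃ m : ℕ, f ^ m • z = 0 := by
  let S := Submonoid.powers f
  let R' := Localization.Away f
  let M' := LocalizedModule S M
  haveI : Algebra.FiniteType R R' := inferInstance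
  haveI : Algebra.FiniteType B R' := Algebra.FiniteType.trans (S := R) ‹_› ‹_›
  haveI : Module.Finite R' M' := Module.Finite.of_isLocalizedModule S (LocalizedModule.mkLinearMap S M)
  haveI : Module.Flat B M' := flat_localizedModule S
  have h := eq_zero_of_flat C c hdom R' M' (LocalizedModule.mkLinearMap S M z) (fun j => by
    obtain ⟨m, hm⟩ := hz j
    let ρ : M' →ₗ[B] M' := (LinearMap.lsmul R M' (f ^ m)).restrictScalars B
    have hu0 := (Module.End.isUnit_iff _).1
      (IsLocalizedModule.map_units (LocalizedModule.mkLinearMap S M) (⟨f ^ m, m, rfl⟩ : S))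
    have hu : Function.Bijective ρ := hu0
    have h2 := congrArg (((LocalizedModule.mkLinearMap S M).restrictScalars B).lTensor (C j)) hm
    rw [LinearMap.lTensor_tmul, map_zero] at h2
    let e := LinearEquiv.lTensor (C j) (LinearEquiv.ofBijective ρ hu)
    apply e.injective
    rw [map_zero]
    simp only [e, LinearEquiv.lTensor_tmul, LinearEquiv.ofBijective_apply]
    simpa [ρ] using h2)
  obtain ⟨⟨_, m, rfl⟩, hm⟩ := (IsLocalizedModule.eq_zero_iff S
    (LocalizedModule.mkLinearMap S M)).1 h
  exact ⟨m, hm⟩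

end SchDomBCLib
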