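import Mathlib
import Groth.Agent.SchDomBC.FlatBase

/-!
A family of sections which is fibrewise injective on every basic open is universally injective
(EGA IV 11.10.9), algebraic form.
-/

open scoped TensorProduct

set_option backward.isDefEq.respectTransparency false

namespace SchDomBCLib

universe u

theorem exists_smul_eq_zero_of_tmul_one {A : Type u} [CommRing A] (p : Ideal A) [p.IsPrime]
    {X : Type u} [AddCommGroup X] [Module A X] (hX : ∀ a ∈ p, ∀ x : X, a • x = 0) (x : X)
    (h : x ⊗ₜ[A] (1 : p.ResidueField) = 0) : ∃ s : A, s ∉ p ∧ s • x = 0 := by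
  have h1 : Module.IsTorsionBySet A X (p : Set A) := fun x a => hX a a.2 x
  letI : Module (A ⧸ p) X := h1.module
  haveI : IsScalarTower A (A ⧸ p) X := h1.isScalarTower
  have h2 : (1 : p.ResidueField) ⊗ₜ[A] x = 0 := by
    have := congrArg (TensorProduct.comm A X p.ResidueField) h
    simpa using this
  have h3 : (1 : p.ResidueField) ⊗ₜ[A ⧸ p] x = 0 := by
    have := congrArg (TensorProduct.mapOfCompatibleSMul (A ⧸ p) A A p.ResidueField X) h2
    simpa using this
  obtain ⟨⟨c, hc⟩, hcx⟩ := (IsLocalizedModule.eq_zero_iff (nonZeroDivisors (A ⧸ p))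
    (TensorProduct.mk (A ⧸ p) p.ResidueField X 1)).1 h3
  obtain ⟨s, rfl⟩ := Ideal.Quotient.mk_surjective c
  refine ⟨s, fun hs => ?_, ?_⟩
  · exact nonZeroDivisors.ne_zero hc (Ideal.Quotient.eq_zero_iff_mem.2 hs)
  · rw [← algebraMap_smul (A ⧸ p) s x]
    exact hcx

section Gamma

variable {B Bk R R' A'' I G C : Type u} [CommRing B] [CommRing Bk] [CommRing R] [CommRing R']
  [CommRing A''] [Algebra B R] [Algebra B Bk] [Algebra Bk R'] [Algebra A'' R] [Algebra A'' R']
  [AddCommGroup I] [Module A'' I] [AddCommGroup G] [Module A'' G] [AddCommGroup C] [Module B C]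

theorem tmul_map_eq_zero (π : R →ₗ[A''] R')
    (hπ : ∀ (b : B) (r : R), π (b • r) = algebraMap Bk R' (algebraMap B Bk b) * π r)
    (q : I →ₗ[A''] G) (c : C) (δ : R →ₗ[A''] R ⊗[B] C) (hδ : ∀ r, δ r = r ⊗ₜ c) (w : R ⊗[A''] I)
    (h : δ.rTensor I w = 0) :
    ((1 : Bk) ⊗ₜ[B] c) ⊗ₜ[Bk] (TensorProduct.map π q w) = 0 := by
  let Γi : I → (R ⊗[B] C →+ (Bk ⊗[B] C) ⊗[Bk] (R' ⊗[A''] G)) := fun i => TensorProduct.liftAddHom
    { toFun := fun r =>
        { toFun := fun c' => (1 ⊗ₜ c') ⊗ₜ (π r ⊗ₜ q i)
          map_zero' := by simp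
          map_add' := fun u v => by simp [TensorProduct.tmul_add, TensorProduct.add_tmul] }
      map_zero' := by ext; simp
      map_add' := fun u v => by ext; simp [TensorProduct.tmul_add, TensorProduct.add_tmul] }
    (fun b r c' => by
      show ((1 : Bk) ⊗ₜ[B] c') ⊗ₜ[Bk] (π (b • r) ⊗ₜ[A''] q i) =
        ((1 : Bk) ⊗ₜ[B] (b • c')) ⊗ₜ[Bk] (π r ⊗ₜ[A''] q i)
      rw [hπ, ← Algebra.smul_def, ← TensorProduct.smul_tmul', ← TensorProduct.smul_tmul,
        algebraMap_smul, TensorProduct.tmul_smul])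
  let Γ : (R ⊗[B] C) ⊗[A''] I →+ (Bk ⊗[B] C) ⊗[Bk] (R' ⊗[A''] G) := TensorProduct.liftAddHom
    { toFun := fun d =>
        { toFun := fun i => Γi i d
          map_zero' := by
            induction d using TensorProduct.induction_on with
            | zero => simp
            | tmul r c' => simp [Γi]
            | add u v hu hv => simp only [map_add, hu, hv, add_zero]
          map_add' := fun i i' => by
            induction d using TensorProduct.induction_on with
            | zero => simp
            | tmul r c' => simp [Γi, TensorProduct.tmul_add]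
            | add u v hu hv => simp only [map_add, hu, hv]; abel }
      map_zero' := by ext; simp
      map_add' := fun u v => by ext; simp }
    (fun t d i => by
      show Γi i (t • d) = Γi (t • i) d
      induction d using TensorProduct.induction_on with
      | zero => simp
      | tmul r c' =>
        rw [TensorProduct.smul_tmul']
        simp only [Γi, TensorProduct.liftAddHom_tmul, AddMonoidHom.coe_mk, ZeroHom.coe_mk, map_smul]
        rw [TensorProduct.smul_tmul]
      | add u v hu hv => simp only [smul_add, map_add, hu, hv])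
  have hΓ : ∀ v, Γ (δ.rTensor I v) = (1 ⊗ₜ c) ⊗ₜ TensorProduct.map π q v := by
    intro v
    induction v using TensorProduct.induction_on with
    | zero => simp
    | add a b ha hb => simp only [map_add, ha, hb, TensorProduct.tmul_add]
    | tmul a i => simp [Γ, Γi, hδ]
  rw [← hΓ, h, map_zero]

end Gamma

variable {A B A'' : Type u} [CommRing A] [CommRing B] [CommRing A''] [Algebra A B] [Algebra A A'']
  [IsNoetherianRing B] [Algebra.FiniteType A A'']

set_option maxHeartbeats 1600000 in
attribute [local instance] Algebra.TensorProduct.rightAlgebra in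
theorem fibrewise {J : Type u} (C : J → Type u) [∀ j, AddCommGroup (C j)] [∀ j, Module B (C j)]
    [∀ j, Module A (C j)] [∀ j, IsScalarTower A B (C j)] [∀ j, Module.Flat A (C j)] (c : ∀ j, C j)
    (hfib : ∀ (p : Ideal A) [p.IsPrime] (g b : B ⊗[A] p.ResidueField),
      (∀ j, ∃ m : ℕ, g ^ m • b • ((1 : B ⊗[A] p.ResidueField) ⊗ₜ[B] c j) = 0) →
        ∃ m : ℕ, g ^ m * b = 0)
    (f x : B ⊗[A] A'') (hx : ∀ j, ∃ m : ℕ, (f ^ m * x) ⊗ₜ[B] c j = 0) :
    ∃ m : ℕ, f ^ m * x = 0 := by
  classical
  by_contra hcon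
  push Not at hcon
  haveI : IsNoetherianRing (B ⊗[A] A'') := Algebra.FiniteType.isNoetherianRing B (B ⊗[A] A'')
  let Jx : Ideal (B ⊗[A] A'') :=
    { carrier := {r | ∃ m : ℕ, f ^ m * (r * x) = 0}
      add_mem' := by
        rintro a b ⟨m, hm⟩ ⟨n, hn⟩
        exact ⟨m + n, by linear_combination f ^ n * hm + f ^ m * hn⟩
      zero_mem' := ⟨0, by simp⟩
      smul_mem' := by
        rintro a b ⟨m, hm⟩
        exact ⟨m, by rw [smul_eq_mul]; linear_combination a * hm⟩ }
  have hdisj : Disjoint (Jx : Set (B ⊗[A] A'')) (Submonoid.powers f) := by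
    rw [Set.disjoint_left]
    rintro _ ⟨m, hm⟩ ⟨k, rfl⟩
    exact hcon (m + k) (by rw [pow_add, mul_assoc]; exact hm)
  obtain ⟨q, hq, hJq, hqd⟩ := Ideal.exists_le_prime_disjoint Jx (Submonoid.powers f) hdisj
  haveI := hq
  have hfq : ∀ m : ℕ, f ^ m ∉ q := fun m h => Set.disjoint_left.1 hqd h ⟨m, rfl⟩
  let p : Ideal A := q.comap (algebraMap A (B ⊗[A] A''))
  haveI : p.IsPrime := Ideal.IsPrime.comap _
  let St : ℕ → Prop := fun n =>
    ∃ σ, σ ∉ q ∧ σ * x ∈ (p ^ n).map (algebraMap A (B ⊗[A] A''))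
  have hex : ∃ n, St n ∧ ¬ St (n + 1) := by
    by_contra hall
    push Not at hall
    have hSt : ∀ n, St n := by
      intro n
      induction n with
      | zero => exact ⟨1, fun h => hq.ne_top ((Ideal.eq_top_iff_one q).2 h), by simp [Ideal.map_top]⟩
      | succ n ih => exact hall n ih
    let Rq := Localization.AtPrime q
    let P := (p.map (algebraMap A (B ⊗[A] A''))).map (algebraMap _ Rq)
    have hP : P ≠ ⊤ := by
      refine ne_top_of_le_ne_top (IsLocalRing.maximalIdeal.isMaximal Rq).ne_top ?_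
      rw [← Localization.AtPrime.map_eq_maximalIdeal]
      exact Ideal.map_mono Ideal.map_comap_le
    have hxP : algebraMap _ Rq x ∈ (⨅ n : ℕ, P ^ n) := by
      rw [Submodule.mem_iInf]
      intro n
      obtain ⟨σ, hσ, hσx⟩ := hSt n
      have h1 := Ideal.mem_map_of_mem (algebraMap _ Rq) hσx
      rw [map_mul, Ideal.map_pow, Ideal.map_pow] at h1
      exact (Ideal.unit_mul_mem_iff_mem _ (IsLocalization.map_units Rq (⟨σ, hσ⟩ : q.primeCompl))).1 h1
    rw [Ideal.iInf_pow_eq_bot_of_isLocalRing P hP, Ideal.mem_bot,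
      IsLocalization.map_eq_zero_iff q.primeCompl] at hxP
    obtain ⟨⟨σ, hσ⟩, hσx⟩ := hxP
    exact hσ (hJq ⟨0, by rw [pow_zero, one_mul]; exact hσx⟩)
  obtain ⟨n, ⟨σ, hσ, hσx⟩, hn⟩ := hex
  obtain ⟨p0, hp0le, hp0fg, hp0⟩ : ∃ p0 : Ideal A, p0 ≤ p ∧ p0.FG ∧
      p.map (algebraMap A (B ⊗[A] A'')) = p0.map (algebraMap A (B ⊗[A] A'')) := by
    obtain ⟨-, ⟨p0, hle, hfg, rfl⟩, hmax⟩ := set_has_maximal_iff_noetherian.mpr
      (inferInstance : IsNoetherianRing (B ⊗[A] A''))
      {K | ∃ p0 : Ideal A, p0 ≤ p ∧ p0.FG ∧ K = p0.map (algebraMap A (B ⊗[A] A''))}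
      ⟨_, ⊥, bot_le, Submodule.fg_bot, rfl⟩
    refine ⟨p0, hle, hfg, le_antisymm ?_ (Ideal.map_mono hle)⟩
    rw [Ideal.map_le_iff_le_comap]
    intro a ha
    by_contra hna
    refine hmax _ ⟨p0 ⊔ Ideal.span {a}, sup_le hle ((Ideal.span_singleton_le_iff_mem _).2 ha),
      Submodule.FG.sup hfg (Submodule.fg_span_singleton a), rfl⟩ (lt_of_le_of_ne (Ideal.map_mono le_sup_left) ?_)
    intro he
    apply hna
    rw [Ideal.mem_comap, he]
    exact Ideal.mem_map_of_mem _ (Submodule.mem_sup_right (Ideal.mem_span_singleton_self a))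
  let I : Ideal A'' := (p0 ^ n).map (algebraMap A A'')
  let I' : Ideal A'' := (p ^ (n + 1)).map (algebraMap A A'')
  let ι : (B ⊗[A] A'') ⊗[A''] I →ₗ[A''] (B ⊗[A] A'') :=
    (TensorProduct.rid A'' (B ⊗[A] A'')).toLinearMap.comp (I.subtype.lTensor _)
  have hι : ∀ r (i : I), ι (r ⊗ₜ i) = r * algebraMap A'' (B ⊗[A] A'') i := fun r i => by
    simp [ι, Algebra.smul_def, mul_comm]
  have hιmul : ∀ r z, ι (r • z) = r * ι z := by
    intro r z
    induction z using TensorProduct.induction_on with
    | zero => simp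
    | add a b ha hb => simp only [smul_add, map_add, ha, hb, mul_add]
    | tmul a i => rw [TensorProduct.smul_tmul', hι, hι, smul_eq_mul, mul_assoc]
  obtain ⟨z, hz⟩ : ∃ z, ι z = σ * x := by
    have hle : (p ^ n).map (algebraMap A (B ⊗[A] A'')) ≤ I.map (algebraMap A'' (B ⊗[A] A'')) := by
      rw [Ideal.map_map, ← IsScalarTower.algebraMap_eq, Ideal.map_pow, Ideal.map_pow, hp0]
    have h1 := hle hσx
    clear hσx
    generalize σ * x = y at h1
    induction h1 using Submodule.span_induction with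
    | mem y hy =>
      obtain ⟨i, hi, rfl⟩ := hy
      exact ⟨1 ⊗ₜ ⟨i, hi⟩, by rw [hι, one_mul]⟩
    | zero => exact ⟨0, map_zero _⟩
    | add a b _ _ ha hb =>
      obtain ⟨u, rfl⟩ := ha
      obtain ⟨v, rfl⟩ := hb
      exact ⟨u + v, map_add _ _ _⟩
    | smul r a _ ha =>
      obtain ⟨u, rfl⟩ := ha
      exact ⟨r • u, hιmul r u⟩
  let N : Submodule A'' I := Submodule.comap I.subtype I'
  let G := I ⧸ N
  let k := p.ResidueField
  let R' := (B ⊗[A] k) ⊗[A] A''
  let πA : (B ⊗[A] A'') →ₐ[A] R' :=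
    Algebra.TensorProduct.map Algebra.TensorProduct.includeLeft (AlgHom.id A A'')
  let π : (B ⊗[A] A'') →ₗ[A''] R' :=
    { toFun := πA
      map_add' := map_add πA
      map_smul' := fun t r => by
        rw [Algebra.smul_def, map_mul, Algebra.smul_def, RingHom.id_apply]
        congr 1 }
  let θ : (B ⊗[A] A'') ⊗[A''] I →ₗ[A''] R' ⊗[A''] G :=
    TensorProduct.map π (Submodule.mkQ _)
  have hθmul : ∀ r w, θ (r • w) = πA r • θ w := by
    intro r w
    induction w using TensorProduct.induction_on with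
    | zero => simp
    | add a b ha hb => simp only [smul_add, map_add, ha, hb]
    | tmul a i =>
      simp only [θ, TensorProduct.smul_tmul', TensorProduct.map_tmul]
      congr 1
      exact map_mul πA r a
  haveI : Module.Finite A'' I :=
    Module.Finite.iff_fg.mpr (Ideal.FG.map (Submodule.FG.pow hp0fg n) _)
  haveI : Module.Finite R' (R' ⊗[A''] G) := inferInstance
  haveI : Algebra.IsPushout A A'' (B ⊗[A] k) R' := Algebra.IsPushout.symm inferInstance
  haveI : Module.Flat (B ⊗[A] k) (R' ⊗[A''] G) :=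
    Module.Flat.of_linearEquiv ((Algebra.IsPushout.cancelBaseChange A (B ⊗[A] k) A'' R' G).trans
      (TensorProduct.AlgebraTensorModule.cancelBaseChange A k (B ⊗[A] k) (B ⊗[A] k) G).symm)
  haveI : IsNoetherianRing (B ⊗[A] k) := Algebra.EssFiniteType.isNoetherianRing B (B ⊗[A] k)
  obtain ⟨m, hm⟩ := exists_pow_smul_eq_zero (fun j => (B ⊗[A] k) ⊗[B] C j) (fun j => 1 ⊗ₜ c j)
    (hfib p) R' (R' ⊗[A''] G) (πA f) (θ z) (fun j => by
      obtain ⟨m, hm⟩ := hx j
      refine ⟨m, ?_⟩
      rw [← map_pow, ← hθmul]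
      let δ : (B ⊗[A] A'') →ₗ[A''] (B ⊗[A] A'') ⊗[B] C j :=
        { toFun := fun r => r ⊗ₜ c j
          map_add' := fun a b => TensorProduct.add_tmul a b _
          map_smul' := fun t r => rfl }
      haveI : Algebra.IsPushout A B A'' (B ⊗[A] A'') := inferInstance
      haveI : Module.Flat A'' ((B ⊗[A] A'') ⊗[B] C j) :=
        Module.Flat.of_linearEquiv (Algebra.IsPushout.cancelBaseChange A A'' B (B ⊗[A] A'') (C j))
      have hΦ : δ.rTensor I (f ^ m • z) = 0 := by
        apply Module.Flat.lTensor_preserves_injective_linearMap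
          (M := (B ⊗[A] A'') ⊗[B] C j) I.subtype Subtype.val_injective
        apply (TensorProduct.rid A'' ((B ⊗[A] A'') ⊗[B] C j)).injective
        have hkey : ∀ w, (TensorProduct.rid A'' ((B ⊗[A] A'') ⊗[B] C j))
            (I.subtype.lTensor _ (δ.rTensor I w)) = δ (ι w) := by
          intro w
          induction w using TensorProduct.induction_on with
          | zero => simp
          | add a b ha hb => simp only [map_add, ha, hb]
          | tmul a i =>
            simp only [ι, LinearMap.rTensor_tmul, LinearMap.lTensor_tmul, LinearMap.comp_apply,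
              LinearEquiv.coe_coe, TensorProduct.rid_tmul]
            exact (map_smul δ _ _).symm
        rw [hkey, hιmul, hz, map_zero, map_zero, mul_left_comm]
        show (σ * (f ^ m * x)) ⊗ₜ[B] c j = 0
        rw [← smul_eq_mul, ← TensorProduct.smul_tmul', hm, smul_zero]
      have hπB : ∀ (b : B) (r : B ⊗[A] A''),
          π (b • r) = algebraMap (B ⊗[A] k) R' (algebraMap B (B ⊗[A] k) b) * π r := fun b r => by
        rw [Algebra.smul_def]
        show πA (_ * r) = _
        rw [map_mul]
        congr 1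
      exact tmul_map_eq_zero π hπB (Submodule.mkQ N) (c j) δ (fun _ => rfl) _ hΦ)
  rw [← map_pow, ← hθmul] at hm
  let ρ0 : R' →ₗ[A] (B ⊗[A] A'') ⊗[A] k := (TensorProduct.rightComm A B k A'').toLinearMap
  have hρ0 : ∀ b u t, ρ0 ((b ⊗ₜ u) ⊗ₜ t) = (b ⊗ₜ t) ⊗ₜ u := fun b u t => rfl
  let ρ : R' →ₗ[A''] (B ⊗[A] A'') ⊗[A] k :=
    { toFun := ρ0
      map_add' := map_add ρ0
      map_smul' := fun t r => by
        rw [RingHom.id_apply, Algebra.smul_def]
        induction r using TensorProduct.induction_on with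
        | zero => simp
        | add a b ha hb => simp only [mul_add, map_add, ha, hb, smul_add]
        | tmul w t' =>
          induction w using TensorProduct.induction_on with
          | zero => simp
          | add a b ha hb => simp only [TensorProduct.add_tmul, mul_add, map_add, ha, hb, smul_add]
          | tmul b u =>
            show ρ0 ((1 : B ⊗[A] k) ⊗ₜ t * ((b ⊗ₜ u) ⊗ₜ t')) = _
            rw [Algebra.TensorProduct.tmul_mul_tmul, one_mul, hρ0, hρ0, TensorProduct.smul_tmul']
            congr 1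
            rw [Algebra.smul_def]
            show _ = ((1 : B) ⊗ₜ t) * (b ⊗ₜ t')
            rw [Algebra.TensorProduct.tmul_mul_tmul, one_mul] }
  let Λ := (TensorProduct.AlgebraTensorModule.rightComm A A'' A'' (B ⊗[A] A'') G k).symm.toLinearMap.comp
    (ρ.rTensor G)
  have hΛ : ∀ w, Λ (θ w) = ((Submodule.mkQ N).lTensor (B ⊗[A] A'') w) ⊗ₜ[A] (1 : k) := by
    intro w
    induction w using TensorProduct.induction_on with
    | zero => simp
    | add a b ha hb => simp only [map_add, ha, hb, TensorProduct.add_tmul]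
    | tmul r i =>
      have hr : ρ (π r) = r ⊗ₜ[A] (1 : k) := by
        induction r using TensorProduct.induction_on with
        | zero => simp
        | add a b ha hb => simp only [map_add, ha, hb, TensorProduct.add_tmul]
        | tmul b t => exact hρ0 b 1 t
      simp only [Λ, θ, LinearMap.comp_apply, TensorProduct.map_tmul, LinearMap.rTensor_tmul,
        LinearMap.lTensor_tmul, LinearEquiv.coe_coe, hr]
      rw [LinearEquiv.symm_apply_eq, TensorProduct.AlgebraTensorModule.rightComm_tmul]
  have hG : ∀ a ∈ p, ∀ w : (B ⊗[A] A'') ⊗[A''] G, a • w = 0 := by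
    intro a ha w
    induction w using TensorProduct.induction_on with
    | zero => exact smul_zero _
    | add u v hu hv => rw [smul_add, hu, hv, add_zero]
    | tmul r g =>
      obtain ⟨i, rfl⟩ := Submodule.Quotient.mk_surjective N g
      rw [← algebraMap_smul A'' a, TensorProduct.smul_tmul', TensorProduct.smul_tmul,
        ← Submodule.Quotient.mk_smul, (Submodule.Quotient.mk_eq_zero N).2, TensorProduct.tmul_zero]
      show algebraMap A A'' a * (i : A'') ∈ I'
      simp only [I']
      rw [pow_succ', Ideal.map_mul]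
      exact Ideal.mul_mem_mul (Ideal.mem_map_of_mem _ ha)
        (Ideal.map_mono (Ideal.pow_right_mono hp0le n) i.2)
  obtain ⟨s, hs, hsy⟩ := exists_smul_eq_zero_of_tmul_one p hG
    ((Submodule.mkQ N).lTensor (B ⊗[A] A'') (f ^ m • z)) (by rw [← hΛ, hm, map_zero])
  rw [← algebraMap_smul A'' s, ← map_smul] at hsy
  obtain ⟨w, hw⟩ := (lTensor_exact (B ⊗[A] A'') (LinearMap.exact_subtype_mkQ N)
    (Submodule.mkQ_surjective N) _).1 hsy
  apply hn
  refine ⟨algebraMap A (B ⊗[A] A'') s * (f ^ m * σ), ?_, ?_⟩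
  · intro h
    rcases hq.mem_or_mem h with h | h
    · exact hs h
    · rcases hq.mem_or_mem h with h | h
      · exact hfq m h
      · exact hσ h
  · have h0 : ∀ v, ι (N.subtype.lTensor _ v) ∈ (p ^ (n + 1)).map (algebraMap A (B ⊗[A] A'')) := by
      intro v
      induction v using TensorProduct.induction_on with
      | zero => simp
      | add a b ha hb => simp only [map_add]; exact add_mem ha hb
      | tmul r i =>
        rw [LinearMap.lTensor_tmul, hι]
        refine Ideal.mul_mem_left _ r ?_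
        have h2 := Ideal.mem_map_of_mem (algebraMap A'' (B ⊗[A] A'')) (show ((i : I) : A'') ∈ I' from i.2)
        rw [Ideal.map_map, ← IsScalarTower.algebraMap_eq] at h2
        exact h2
    have h1 := h0 w
    rw [hw, map_smul, hιmul, hz, Algebra.smul_def,
      ← IsScalarTower.algebraMap_apply] at h1
    simpa [mul_assoc] using h1

end SchDomBCLib

namespace SchDomBCLib

open scoped TensorProduct

universe u

variable {A B : Type u} [CommRing A] [CommRing B] [Algebra A B]

theorem tmul_one_eq_zero_iff {C T : Type u} [CommRing C] [Algebra B C] [Algebra A C] [IsScalarTower A B C]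
    [CommRing T] [Algebra A T] (y : B ⊗[A] T) :
    y ⊗ₜ[B] (1 : C) = 0 ↔
      Algebra.TensorProduct.map (IsScalarTower.toAlgHom A B C) (AlgHom.id A T) y = 0 := by
  have key : TensorProduct.AlgebraTensorModule.cancelBaseChange A B B C T ((1 : C) ⊗ₜ[B] y) =
      Algebra.TensorProduct.map (IsScalarTower.toAlgHom A B C) (AlgHom.id A T) y := by
    induction y using TensorProduct.induction_on with
    | zero => simp
    | add a b ha hb => simp only [TensorProduct.tmul_add, map_add, ha, hb]
    | tmul b t =>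
      rw [TensorProduct.AlgebraTensorModule.cancelBaseChange_tmul, Algebra.TensorProduct.map_tmul]
      simp [Algebra.smul_def]
  rw [← key, LinearEquiv.map_eq_zero_iff, ← LinearEquiv.map_eq_zero_iff (TensorProduct.comm B _ C),
    TensorProduct.comm_tmul]

/-- Universal injectivity from injectivity on all fibres. -/
theorem fibrewise_algebra [IsNoetherianRing B] {J : Type u} (C : J → Type u) [∀ j, CommRing (C j)]
    [∀ j, Algebra B (C j)] [∀ j, Algebra A (C j)] [∀ j, IsScalarTower A B (C j)]
    [∀ j, Module.Flat A (C j)]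
    (hfib : ∀ (p : Ideal A) [p.IsPrime] (g b : B ⊗[A] p.ResidueField),
      (∀ j, ∃ m : ℕ, Algebra.TensorProduct.map (IsScalarTower.toAlgHom A B (C j))
        (AlgHom.id A p.ResidueField) (g ^ m * b) = 0) → ∃ m : ℕ, g ^ m * b = 0)
    {A' : Type u} [CommRing A'] [Algebra A A'] (f x : B ⊗[A] A')
    (hx : ∀ j, ∃ m : ℕ,
      Algebra.TensorProduct.map (IsScalarTower.toAlgHom A B (C j)) (AlgHom.id A A') (f ^ m * x) = 0) :
    ∃ m : ℕ, f ^ m * x = 0 := by
  classical
  have hex : ∀ y : B ⊗[A] A', ∃ s : Finset A', ∀ T : Subalgebra A A', ↑s ⊆ (T : Set A') →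
      ∃ y', Algebra.TensorProduct.map (AlgHom.id A B) T.val y' = y := by
    intro y
    induction y using TensorProduct.induction_on with
    | zero => exact ⟨∅, fun T _ => ⟨0, map_zero _⟩⟩
    | tmul b t => exact ⟨{t}, fun T hT => ⟨b ⊗ₜ ⟨t, hT (Finset.mem_singleton_self t)⟩, rfl⟩⟩
    | add u v hu hv =>
      obtain ⟨s, hs⟩ := hu
      obtain ⟨s', hs'⟩ := hv
      refine ⟨s ∪ s', fun T hT => ?_⟩
      obtain ⟨u', rfl⟩ := hs T fun a ha => hT (Finset.mem_union_left _ ha)
      obtain ⟨v', rfl⟩ := hs' T fun a ha => hT (Finset.mem_union_right _ ha)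
      exact ⟨u' + v', map_add _ _ _⟩
  obtain ⟨sf, hsf⟩ := hex f
  obtain ⟨sx, hsx⟩ := hex x
  let T : Subalgebra A A' := Algebra.adjoin A ↑(sf ∪ sx)
  haveI : Algebra.FiniteType A T := T.fg_iff_finiteType.1 ⟨sf ∪ sx, rfl⟩
  obtain ⟨f', rfl⟩ := hsf T fun a ha => Algebra.subset_adjoin (Finset.mem_union_left _ ha)
  obtain ⟨x', rfl⟩ := hsx T fun a ha => Algebra.subset_adjoin (Finset.mem_union_right _ ha)
  obtain ⟨m, hm⟩ := fibrewise (A := A) (A'' := T) C (fun j => 1)
    (fun p hp g b h => hfib p g b fun j => by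
      obtain ⟨m, hm⟩ := h j
      refine ⟨m, (tmul_one_eq_zero_iff _).1 ?_⟩
      rw [← hm, TensorProduct.smul_tmul', TensorProduct.smul_tmul', smul_eq_mul, smul_eq_mul, mul_one]) f' x'
    (fun j => by
      obtain ⟨m, hm⟩ := hx j
      refine ⟨m, (tmul_one_eq_zero_iff _).2 ?_⟩
      have hinj : Function.Injective (Algebra.TensorProduct.map (AlgHom.id A (C j)) T.val) :=
        Module.Flat.lTensor_preserves_injective_linearMap (M := C j) T.val.toLinearMap
          Subtype.val_injective
      apply hinj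
      rw [map_zero, ← hm, ← map_pow, ← map_mul, ← AlgHom.comp_apply, ← AlgHom.comp_apply,
        ← Algebra.TensorProduct.map_comp, ← Algebra.TensorProduct.map_comp]
      simp)
  exact ⟨m, by rw [← map_pow, ← map_mul, hm, map_zero]⟩

end SchDomBCLib
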