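import Mathlib
import Groth.Agent.SchDomBC.Fibrewise
import Groth.Agent.Flat.AlgebraModel

/-!
A family of basic opens which is schematically dense in all fibres of a flat finitely presented
algebra is schematically dense (EGA IV 11.10.10).
-/

open scoped TensorProduct

set_option backward.isDefEq.respectTransparency false

namespace SchDomBCLib

universe u

theorem eq_zero_of_residue {A₁ B₁ A K : Type u} [CommRing A₁] [IsNoetherianRing A₁] [CommRing B₁]
    [Algebra A₁ B₁] [Module.Flat A₁ B₁] [CommRing A] [Field K] [Algebra A₁ A] [Algebra A₁ K]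
    [Algebra A K] [IsScalarTower A₁ A K] (hloc : ∀ a : A, algebraMap A K a ≠ 0 → IsUnit a)
    (H : Set B₁)
    (hfib : ∀ b : K ⊗[A₁] B₁, (∀ h ∈ H, ∃ m : ℕ, ((1 : K) ⊗ₜ[A₁] h) ^ m * b = 0) → b = 0)
    (x : A ⊗[A₁] B₁) (hx : ∀ h ∈ H, ∃ m : ℕ, ((1 : A) ⊗ₜ[A₁] h) ^ m * x = 0)
    (hann : ∀ a : A, algebraMap A K a = 0 → ∃ n : ℕ, a ^ n • x = 0) : x = 0 := by
  classical
  let p : Ideal A₁ := RingHom.ker (algebraMap A₁ K)
  haveI : p.IsPrime := RingHom.ker_isPrime _
  let Jx : Ideal A₁ :=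
    { carrier := {a | a • x = 0}
      add_mem' := fun {a b} ha hb => by
        show (a + b) • x = 0
        rw [add_smul, ha, hb, add_zero]
      zero_mem' := zero_smul _ x
      smul_mem' := fun a b hb => by
        show (a • b) • x = 0
        rw [smul_assoc, hb, smul_zero] }
  obtain ⟨N, hN⟩ : ∃ N, p ^ N ≤ Jx := by
    refine Ideal.exists_pow_le_of_le_radical_of_fg ?_ (IsNoetherian.noetherian p)
    intro a ha
    obtain ⟨n, hn⟩ := hann (algebraMap A₁ A a) (by
      rw [← IsScalarTower.algebraMap_apply]; exact ha)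
    exact ⟨n, by show a ^ n • x = 0; rw [← algebraMap_smul A (a ^ n) x, map_pow]; exact hn⟩
  suffices key : ∀ (n : ℕ) (y : A ⊗[A₁] B₁), (∀ a ∈ p ^ n, a • y = 0) →
      (∀ h ∈ H, ∃ m : ℕ, ((1 : A) ⊗ₜ[A₁] h) ^ m * y = 0) → y = 0 from key N x (fun a ha => hN ha) hx
  intro n
  induction n with
  | zero => exact fun y hy _ => by simpa using hy 1 (by simp)
  | succ n ih =>
    intro y hy hyH
    have hpy : ∀ a ∈ p, a • y = 0 := fun a ha => ih (a • y)
      (fun b hb => by rw [smul_smul]; exact hy _ (by rw [pow_succ]; exact Ideal.mul_mem_mul hb ha))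
      (fun h hh => by
        obtain ⟨m, hm⟩ := hyH h hh
        exact ⟨m, by rw [mul_smul_comm, hm, smul_zero]⟩)
    obtain ⟨k, gens, hgens⟩ := Submodule.fg_iff_exists_fin_generating_family.1 (IsNoetherian.noetherian p)
    let ψ : A →ₗ[A₁] (Fin k → A) := LinearMap.pi fun i => LinearMap.lsmul A₁ A (gens i)
    let V := LinearMap.ker ψ
    have hψ : ψ.rTensor B₁ y = 0 := by
      apply (TensorProduct.piLeft A₁ B₁ (fun _ : Fin k => A)).injective
      funext i
      rw [map_zero, Pi.zero_apply]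
      refine (?_ : _ = gens i • y).trans (hpy _ (hgens.le (Submodule.subset_span ⟨i, rfl⟩)))
      clear hy hyH hpy
      induction y using TensorProduct.induction_on with
      | zero => simp
      | add u v hu hv => simp only [map_add, Pi.add_apply, hu, hv, smul_add]
      | tmul a b => simp [ψ, TensorProduct.smul_tmul']
    obtain ⟨w, hw⟩ := (Module.Flat.rTensor_exact B₁ ψ.exact_subtype_ker_map _).1 hψ
    have hV : ∀ a ∈ p, ∀ v : V, a • v = 0 := by
      intro a ha v
      apply Subtype.ext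
      show a • (v : A) = 0
      rw [← hgens] at ha
      induction ha using Submodule.span_induction with
      | mem z hz =>
        obtain ⟨i, rfl⟩ := hz
        exact congrFun (show ψ (v : A) = 0 from v.2) i
      | zero => exact zero_smul _ _
      | add a b _ _ ha hb => rw [add_smul, ha, hb, add_zero]
      | smul c a _ ha => rw [smul_assoc, ha, smul_zero]
    let ι : V →ₗ[A₁] V ⊗[A₁] p.ResidueField := (TensorProduct.mk A₁ V p.ResidueField).flip 1
    have hι : Function.Injective ι := by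
      rw [injective_iff_map_eq_zero]
      intro v hv
      obtain ⟨s, hs, hsv⟩ := exists_smul_eq_zero_of_tmul_one p hV v hv
      have hu : IsUnit (algebraMap A₁ A s) := hloc _ (by
        rw [← IsScalarTower.algebraMap_apply]; exact hs)
      apply Subtype.ext
      have : algebraMap A₁ A s * (v : A) = 0 := by
        rw [← Algebra.smul_def]; exact congrArg Subtype.val hsv
      exact (hu.mul_right_eq_zero).1 this
    let W := p.ResidueField ⊗[A₁] V
    let ι' : V →ₗ[A₁] W := (TensorProduct.comm A₁ V p.ResidueField).toLinearMap ∘ₗ ι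
    have hι' : Function.Injective ι' := (TensorProduct.comm A₁ V p.ResidueField).injective.comp hι
    let bs := Module.Free.chooseBasis p.ResidueField W
    let e : p.ResidueField →ₐ[A₁] K := Ideal.ResidueField.liftₐ p (Algebra.ofId A₁ K) le_rfl
      (fun a ha => by
        show IsUnit (algebraMap A₁ K a)
        exact (show algebraMap A₁ K a ≠ 0 from ha).isUnit)
    let coord : ∀ _i : Module.Free.ChooseBasisIndex p.ResidueField W, V →ₗ[A₁] K := fun i =>
      e.toLinearMap ∘ₗ ((bs.coord i).restrictScalars A₁) ∘ₗ ι'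
    have hzero : ∀ i, (coord i).rTensor B₁ w = 0 := by
      intro i
      apply hfib
      intro h hh
      obtain ⟨m, hm⟩ := hyH h hh
      refine ⟨m, ?_⟩
      let μ : B₁ →ₗ[A₁] B₁ := LinearMap.mulLeft A₁ (h ^ m)
      have hμ : ∀ (X : Type u) [CommRing X] [Algebra A₁ X] (z : X ⊗[A₁] B₁),
          ((1 : X) ⊗ₜ[A₁] h) ^ m * z = μ.lTensor X z := by
        intro X _ _ z
        induction z using TensorProduct.induction_on with
        | zero => simp
        | add u v hu hv => simp only [mul_add, map_add, hu, hv]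
        | tmul u v => simp [μ, Algebra.TensorProduct.tmul_pow]
      rw [hμ] at hm ⊢
      have hw0 : μ.lTensor V w = 0 := by
        apply Module.Flat.rTensor_preserves_injective_linearMap (M := B₁) V.subtype Subtype.val_injective
        rw [map_zero, ← hm, ← hw, ← LinearMap.comp_apply, ← LinearMap.comp_apply,
          LinearMap.rTensor_comp_lTensor, LinearMap.lTensor_comp_rTensor]
      rw [← LinearMap.comp_apply, LinearMap.lTensor_comp_rTensor, ← LinearMap.rTensor_comp_lTensor,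
        LinearMap.comp_apply, hw0, map_zero]
    have h2 : ι'.rTensor B₁ w = 0 := by
      let E : W ≃ₗ[A₁] (_ →₀ p.ResidueField) := bs.repr.restrictScalars A₁
      apply (LinearEquiv.rTensor B₁ E).injective
      apply (TensorProduct.finsuppLeft A₁ A₁ p.ResidueField B₁ _).injective
      ext i
      rw [map_zero, map_zero, Finsupp.zero_apply]
      apply Module.Flat.rTensor_preserves_injective_linearMap (M := B₁) e.toLinearMap
        e.toRingHom.injective
      rw [map_zero, ← hzero i]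
      clear hzero hw
      induction w using TensorProduct.induction_on with
      | zero => simp
      | add u v hu hv => simp only [map_add, Finsupp.add_apply, hu, hv]
      | tmul v b => simp [coord, E, TensorProduct.finsuppLeft_apply_tmul_apply]
    have hw0 : w = 0 :=
      Module.Flat.rTensor_preserves_injective_linearMap (M := B₁) ι' hι' (h2.trans (map_zero _).symm)
    rw [← hw, hw0, map_zero]

set_option synthInstance.maxHeartbeats 200000 in
set_option maxHeartbeats 800000 in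
theorem exists_model (A B : Type u) [CommRing A] [CommRing B] [Algebra A B]
    [Algebra.FinitePresentation A B] [Module.Flat A B] (s : Finset B) :
    ∃ (A₁ : Type u) (_ : CommRing A₁) (_ : IsNoetherianRing A₁) (_ : Algebra A₁ A) (B₁ : Type u)
      (_ : CommRing B₁) (_ : Algebra A₁ B₁) (_ : Module.Flat A₁ B₁) (_ : Algebra.FiniteType A₁ B₁)
      (e : A ⊗[A₁] B₁ ≃ₐ[A] B),
      ∀ h ∈ s, ∃ h₁ : B₁, e (1 ⊗ₜ h₁) = h := by
  classical
  obtain ⟨T, hT⟩ := Groth.Agent.Flat.AlgebraModel.exists_flat_algebra_model A B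
  obtain ⟨B₀, _, _, j, hft, hflat, hpo⟩ := hT T le_rfl
  haveI := hflat
  haveI := hft
  let A₀ := Groth.Agent.Flat.OpenLocus.adj T
  letI : Algebra B₀ B := j.toAlgebra
  haveI : IsScalarTower A₀ A B := IsScalarTower.of_algebraMap_eq fun _ => rfl
  haveI : IsScalarTower A₀ B₀ B := IsScalarTower.of_algebraMap_eq fun a => RingHom.congr_fun
    (congrArg CommRingCat.Hom.hom hpo.w) a
  haveI : Algebra.IsPushout A₀ A B₀ B := CommRingCat.isPushout_iff_isPushout.mp hpo
  let e₀ : A ⊗[A₀] B₀ ≃ₐ[A] B := Algebra.IsPushout.equiv A₀ A B₀ B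
  have hcoef : ∀ y : A ⊗[A₀] B₀, ∃ c : Finset A, ∀ A₁ : Subalgebra A₀ A, ↑c ⊆ (A₁ : Set A) →
      ∃ y' : A₁ ⊗[A₀] B₀, Algebra.TensorProduct.map A₁.val (AlgHom.id A₀ B₀) y' = y := by
    intro y
    induction y using TensorProduct.induction_on with
    | zero => exact ⟨∅, fun _ _ => ⟨0, map_zero _⟩⟩
    | tmul a b => exact ⟨{a}, fun A₁ hA₁ => ⟨⟨a, hA₁ (Finset.mem_singleton_self a)⟩ ⊗ₜ b, rfl⟩⟩
    | add u v hu hv =>
      obtain ⟨c, hc⟩ := hu
      obtain ⟨c', hc'⟩ := hv
      refine ⟨c ∪ c', fun A₁ hA₁ => ?_⟩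
      obtain ⟨u', rfl⟩ := hc A₁ fun a ha => hA₁ (Finset.mem_union_left _ ha)
      obtain ⟨v', rfl⟩ := hc' A₁ fun a ha => hA₁ (Finset.mem_union_right _ ha)
      exact ⟨u' + v', map_add _ _ _⟩
  choose c hc using fun h : B => hcoef (e₀.symm h)
  let A₁ : Subalgebra A₀ A := Algebra.adjoin A₀ ↑(s.biUnion c)
  haveI : Algebra.FiniteType A₀ A₁ := A₁.fg_iff_finiteType.1 ⟨s.biUnion c, rfl⟩
  haveI : Algebra.FiniteType ℤ A₀ := A₀.fg_iff_finiteType.1 ⟨T, rfl⟩
  haveI : IsNoetherianRing A₀ := Algebra.FiniteType.isNoetherianRing ℤ A₀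
  haveI : IsNoetherianRing A₁ := Algebra.FiniteType.isNoetherianRing A₀ A₁
  let B₁ := A₁ ⊗[A₀] B₀
  let e : A ⊗[A₁] B₁ ≃ₐ[A] B :=
    (Algebra.TensorProduct.cancelBaseChange A₀ A₁ A A B₀).trans e₀
  have hlift : ∀ h ∈ s, ∃ h₁ : B₁, e (1 ⊗ₜ h₁) = h := by
    intro h hh
    obtain ⟨y', hy'⟩ := hc h A₁ fun a ha =>
      Algebra.subset_adjoin (Finset.mem_biUnion.2 ⟨h, hh, ha⟩)
    refine ⟨y', ?_⟩
    show e₀ (Algebra.TensorProduct.cancelBaseChange A₀ A₁ A A B₀ (1 ⊗ₜ y')) = h
    rw [← e₀.apply_symm_apply h, ← hy']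
    refine congrArg e₀ ?_
    clear hy'
    induction y' using TensorProduct.induction_on with
    | zero => simp
    | add u v hu hv => simp only [TensorProduct.tmul_add, map_add, hu, hv]
    | tmul a b =>
      rw [Algebra.TensorProduct.cancelBaseChange_tmul]
      simp [Algebra.smul_def]
  exact ⟨A₁, inferInstance, inferInstance, inferInstance, B₁, inferInstance, inferInstance,
    inferInstance, inferInstance, e, hlift⟩

theorem key_step {A B A₁ B₁ : Type u} [CommRing A] [CommRing B] [Algebra A B] [CommRing A₁]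
    [IsNoetherianRing A₁] [Algebra A₁ A] [CommRing B₁] [Algebra A₁ B₁] [Module.Flat A₁ B₁]
    (e : A ⊗[A₁] B₁ ≃ₐ[A] B) (P : Ideal A) [P.IsPrime] (H : Set B) (s : Finset B) (hsH : ↑s ⊆ H)
    (hs : ∀ h ∈ H, (1 : P.ResidueField) ⊗ₜ[A] h ∈
      Ideal.span ((fun h => (1 : P.ResidueField) ⊗ₜ[A] h) '' (s : Set B)))
    (hlift : ∀ h ∈ s, ∃ h₁ : B₁, e (1 ⊗ₜ h₁) = h)
    (hfib : ∀ b : P.ResidueField ⊗[A] B,
      (∀ h ∈ H, ∃ m : ℕ, ((1 : P.ResidueField) ⊗ₜ[A] h) ^ m * b = 0) → b = 0)
    (x : B) (hx : ∀ h ∈ H, ∃ m : ℕ, h ^ m * x = 0)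
    (hPrad : ∀ a ∈ P, ∃ (n : ℕ) (r : A), r ∉ P ∧ (r * a ^ n) • x = 0) :
    ∃ r ∉ P, r • x = 0 := by
  let K := P.ResidueField
  let AP := Localization.AtPrime P
  let H₁ : Set B₁ := {h₁ | e (1 ⊗ₜ h₁) ∈ (s : Set B)}
  let eP : AP ⊗[A] B ≃ₐ[AP] AP ⊗[A₁] B₁ :=
    (Algebra.TensorProduct.congr AlgEquiv.refl e.symm).trans
      (Algebra.TensorProduct.cancelBaseChange A₁ A AP AP B₁)
  let eK : K ⊗[A] B ≃ₐ[K] K ⊗[A₁] B₁ :=
    (Algebra.TensorProduct.congr AlgEquiv.refl e.symm).trans
      (Algebra.TensorProduct.cancelBaseChange A₁ A K K B₁)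
  have heP : ∀ h₁, eP (1 ⊗ₜ e (1 ⊗ₜ h₁)) = 1 ⊗ₜ h₁ := fun h₁ => by simp [eP]
  have heK : ∀ h₁, eK (1 ⊗ₜ e (1 ⊗ₜ h₁)) = 1 ⊗ₜ h₁ := fun h₁ => by simp [eK]
  have key : eP (1 ⊗ₜ x) = 0 := by
    refine eq_zero_of_residue (A := AP) (K := K) ?_ H₁ ?_ _ ?_ ?_
    · intro a ha
      by_contra h
      exact ha ((IsLocalRing.residue_eq_zero_iff a).2 h)
    · intro b hb
      apply eK.symm.injective
      rw [map_zero]
      refine hfib _ fun h hh => ?_
      have hrad : ∀ h' ∈ (s : Set B), ∃ m : ℕ,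
          ((1 : K) ⊗ₜ[A] h') ^ m * eK.symm b = 0 := by
        intro h' hh'
        obtain ⟨h₁, rfl⟩ := hlift h' hh'
        obtain ⟨m, hm⟩ := hb h₁ hh'
        refine ⟨m, eK.injective ?_⟩
        rw [map_mul, map_pow, heK, eK.apply_symm_apply, hm, map_zero]
      let Ann : Ideal (K ⊗[A] B) :=
        { carrier := {z | z * eK.symm b = 0}
          add_mem' := fun {u v} hu hv => by
            show (u + v) * _ = 0
            rw [add_mul, hu, hv, add_zero]
          zero_mem' := zero_mul _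
          smul_mem' := fun u v hv => by
            show u * v * _ = 0
            rw [mul_assoc, hv, mul_zero] }
      have : (1 : K) ⊗ₜ[A] h ∈ Ann.radical := by
        refine Ideal.span_le.2 ?_ (hs h hh)
        rintro _ ⟨h', hh', rfl⟩
        exact hrad h' hh'
      exact this
    · intro h₁ hh₁
      obtain ⟨m, hm⟩ := hx _ (hsH hh₁)
      refine ⟨m, ?_⟩
      rw [← heP, ← map_pow, ← map_mul, Algebra.TensorProduct.tmul_pow,
        Algebra.TensorProduct.tmul_mul_tmul, one_pow, one_mul, hm, TensorProduct.tmul_zero, map_zero]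
    · intro a ha
      obtain ⟨a', t, rfl⟩ := IsLocalization.exists_mk'_eq P.primeCompl a
      have ha' : a' ∈ P := by
        have := (IsLocalRing.residue_eq_zero_iff _).1 ha
        exact (IsLocalization.AtPrime.mk'_mem_maximal_iff AP P a' t).1 this
      obtain ⟨n, r, hr, hrx⟩ := hPrad a' ha'
      refine ⟨n, ?_⟩
      rw [← map_smul eP]
      have hr' : IsUnit (algebraMap A AP r) := IsLocalization.map_units AP (⟨r, hr⟩ : P.primeCompl)
      have ht : IsUnit (algebraMap A AP (t : A) ^ n) := (IsLocalization.map_units AP t).pow n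
      rw [show (IsLocalization.mk' AP a' t ^ n • ((1 : AP) ⊗ₜ[A] x)) = 0 from ?_, map_zero]
      refine (ht.smul_eq_zero).1 ?_
      refine (hr'.smul_eq_zero).1 ?_
      rw [smul_smul, smul_smul, mul_assoc, ← mul_pow, mul_comm (algebraMap A AP (t : A)),
        IsLocalization.mk'_spec, ← map_pow, ← map_mul, algebraMap_smul, ← TensorProduct.tmul_smul,
        hrx, TensorProduct.tmul_zero]
  have h1 : (1 : AP) ⊗ₜ[A] x = 0 := eP.injective (key.trans (map_zero _).symm)
  obtain ⟨⟨r, hr⟩, hrx⟩ := (IsLocalizedModule.eq_zero_iff P.primeCompl (TensorProduct.mk A AP B 1)).1 h1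
  exact ⟨r, hr, hrx⟩


/-- Fibrewise dense basic opens detect elements. -/
theorem eq_zero_of_fibres {A B : Type u} [CommRing A] [CommRing B] [Algebra A B]
    [Algebra.FinitePresentation A B] [Module.Flat A B] (H : Set B)
    (hfib : ∀ (P : Ideal A) [P.IsPrime] (b : P.ResidueField ⊗[A] B),
      (∀ h ∈ H, ∃ m : ℕ, ((1 : P.ResidueField) ⊗ₜ[A] h) ^ m * b = 0) → b = 0)
    (x : B) (hx : ∀ h ∈ H, ∃ m : ℕ, h ^ m * x = 0) : x = 0 := by
  classical
  by_contra hx0
  let J : Ideal A :=
    { carrier := {a | a • x = 0}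
      add_mem' := fun {a b} ha hb => by
        show (a + b) • x = 0
        rw [add_smul, ha, hb, add_zero]
      zero_mem' := zero_smul _ x
      smul_mem' := fun a b hb => by
        show (a • b) • x = 0
        rw [smul_assoc, hb, smul_zero] }
  have hJ : J ≠ ⊤ := fun h => hx0 (by simpa [J] using (show (1 : A) ∈ J by rw [h]; trivial))
  obtain ⟨M, hM, hJM⟩ := Ideal.exists_le_maximal J hJ
  obtain ⟨P, hP, -⟩ := Ideal.exists_minimalPrimes_le (I := J) (J := M) hJM
  haveI : P.IsPrime := hP.1.1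
  have hPrad : ∀ a ∈ P, ∃ (n : ℕ) (s : A), s ∉ P ∧ (s * a ^ n) • x = 0 := by
    intro a ha
    by_contra hall
    push Not at hall
    obtain ⟨Q, hQ, hJQ, hQd⟩ := Ideal.exists_le_prime_disjoint J (Submonoid.powers a ⊔ P.primeCompl) (by
      rw [Set.disjoint_left]
      intro z hz hzS
      obtain ⟨_, ⟨n, rfl⟩, s, hs, rfl⟩ := Submonoid.mem_sup.1 hzS
      exact hall n s hs (by rw [mul_comm]; exact hz))
    have hQP : Q ≤ P := fun q hq => by
      by_contra hqP
      exact Set.disjoint_left.1 hQd hq (Submonoid.mem_sup_right hqP)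
    exact Set.disjoint_left.1 hQd (hP.2 ⟨hQ, hJQ⟩ hQP ha)
      (Submonoid.mem_sup_left (Submonoid.mem_powers a))
  let K := P.ResidueField
  -- finitely many opens suffice for the fibre
  haveI : IsNoetherianRing (K ⊗[A] B) := Algebra.FiniteType.isNoetherianRing K _
  obtain ⟨s, hsH, hs⟩ : ∃ s : Finset B, ↑s ⊆ H ∧
      ∀ h ∈ H, (1 : K) ⊗ₜ[A] h ∈ Ideal.span ((fun h => (1 : K) ⊗ₜ[A] h) '' (s : Set B)) := by
    obtain ⟨-, ⟨s, hsH, rfl⟩, hmax⟩ := set_has_maximal_iff_noetherian.mpr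
      (inferInstance : IsNoetherianRing (K ⊗[A] B))
      {I | ∃ s : Finset B, ↑s ⊆ H ∧ I = Ideal.span ((fun h => (1 : K) ⊗ₜ[A] h) '' (s : Set B))}
      ⟨_, ∅, by simp, rfl⟩
    refine ⟨s, hsH, fun h hh => ?_⟩
    by_contra hnot
    refine hmax _ ⟨insert h s, by
      intro a ha
      rcases Finset.mem_insert.1 ha with rfl | ha
      exacts [hh, hsH ha], rfl⟩ (lt_of_le_of_ne (Ideal.span_mono (Set.image_mono (by simp))) ?_)
    intro he
    apply hnot
    rw [he]
    exact Ideal.subset_span ⟨h, by simp, rfl⟩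
  obtain ⟨A₁, _, _, _, B₁, _, _, _, _, e, hlift⟩ := exists_model A B s
  obtain ⟨r, hr, hrx⟩ := key_step e P H s hsH hs hlift (hfib P) x hx hPrad
  exact hr (hP.1.2 hrx)

end SchDomBCLib
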