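import Mathlib
import Groth.Agent.SchDomBC.Fibrewise

/-!
Universal schematic dominance from schematic dominance of the fibres (EGA IV 11.10.9).
-/

open CategoryTheory AlgebraicGeometry Limits TopologicalSpace
open scoped TensorProduct

noncomputable section

namespace SchDomBCLib

universe u

theorem app_eq_zero_congr {Z X : Scheme.{u}} {a b : Z ⟶ X} (h : a = b) (V : X.Opens) (t : Γ(X, V))
    (ht : a.app V t = 0) : b.app V t = 0 := by subst h; exact ht

theorem appLE_eq_zero_of_fac {W Z X : Scheme.{u}} (ω : W ⟶ X) (ζ : W ⟶ Z) (h : Z ⟶ X)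
    (e : ζ ≫ h = ω) (V : X.Opens) (t : Γ(X, V)) (ht : h.app V t = 0) (hle : ⊤ ≤ ω ⁻¹ᵁ V) :
    ω.appLE V ⊤ hle t = 0 := by
  subst e
  have h1 : (ζ ≫ h).appLE V ⊤ hle = h.app V ≫ ζ.appLE (h ⁻¹ᵁ V) ⊤ hle := by
    rw [Scheme.Hom.comp_appLE]
  rw [h1]
  show (ζ.appLE (h ⁻¹ᵁ V) ⊤ hle) (h.app V t) = 0
  rw [ht, map_zero]

theorem eq_zero_of_local {X : Scheme.{u}} (V : X.Opens) (t : Γ(X, V))
    (h : ∀ y ∈ V, ∃ (W : Scheme.{u}) (ω : W ⟶ X) (hle : ⊤ ≤ ω ⁻¹ᵁ V), IsOpenImmersion ω ∧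
      y ∈ Set.range ω ∧ ω.appLE V ⊤ hle t = 0) : t = 0 := by
  refine TopCat.Presheaf.section_ext X.sheaf V t 0 fun y hy => ?_
  obtain ⟨W, ω, hle, hω, ⟨w, rfl⟩, h0⟩ := h y hy
  haveI := hω
  show (X.presheaf.germ V (ω w) hy) t = (X.presheaf.germ V (ω w) hy) 0
  rw [map_zero]
  apply (ConcreteCategory.bijective_of_isIso (ω.stalkMap w)).1
  rw [map_zero, Scheme.Hom.germ_stalkMap_apply]
  have h1 : (W.presheaf.germ (ω ⁻¹ᵁ V) w hy) ((ω.app V) t) =
      (W.presheaf.germ ⊤ w trivial) (ω.appLE V ⊤ hle t) := by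
    simp only [Scheme.Hom.appLE, CommRingCat.hom_comp, RingHom.comp_apply]
    exact (W.presheaf.germ_res_apply (homOfLE hle) w trivial _).symm
  rw [h1, h0, map_zero]

theorem transport {X X' : Scheme.{u}} {ι : Type u} {Z Z' : ι → Scheme.{u}} (f : ∀ i, Z i ⟶ X)
    (f' : ∀ i, Z' i ⟶ X') (ε : X ⟶ X') [IsIso ε] (ζ : ∀ i, Z i ⟶ Z' i)
    (hsq : ∀ i, ζ i ≫ f' i = f i ≫ ε)
    (h : ∀ (V : X.Opens) (t : Γ(X, V)), (∀ i, (f i).app V t = 0) → t = 0)
    (V : X'.Opens) (t : Γ(X', V)) (ht : ∀ i, (f' i).app V t = 0) : t = 0 := by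
  have h1 : ε.app V t = 0 := h _ _ fun i => by
    show (f i ≫ ε).app V t = 0
    refine app_eq_zero_congr (hsq i) V t ?_
    show (ζ i).app _ ((f' i).app V t) = 0
    rw [ht i, map_zero]
  haveI : IsIso (ε.app V) := inferInstance
  exact (ConcreteCategory.bijective_of_isIso (ε.app V)).1 (h1.trans (map_zero _).symm)

section Chart

variable {X S T : Scheme.{u}} (p : X ⟶ S) (g : T ⟶ S) {A B A' : Type u} [CommRing A] [CommRing B]
  [CommRing A'] [Algebra A B] [Algebra A A'] (u : Spec (.of A) ⟶ S) (a : Spec (.of B) ⟶ X)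
  (v : Spec (.of A') ⟶ T) (ha : a ≫ p = Spec.map (CommRingCat.ofHom (algebraMap A B)) ≫ u)
  (hv : v ≫ g = Spec.map (CommRingCat.ofHom (algebraMap A A')) ≫ u)

/-- the product chart of a fibre product -/
def chart : Spec (.of (B ⊗[A] A')) ⟶ pullback p g :=
  (pullbackSpecIso A B A').inv ≫ pullback.map _ _ p g a v u ha.symm hv.symm

@[reassoc]
theorem chart_fst : chart p g u a v ha hv ≫ pullback.fst p g =
    Spec.map (CommRingCat.ofHom (Algebra.TensorProduct.includeLeftRingHom)) ≫ a := by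
  simp only [chart, Category.assoc, pullback.lift_fst, pullbackSpecIso_inv_fst_assoc]

@[reassoc]
theorem chart_snd : chart p g u a v ha hv ≫ pullback.snd p g =
    Spec.map (CommRingCat.ofHom
      ((Algebra.TensorProduct.includeRight : A' →ₐ[A] B ⊗[A] A').toRingHom)) ≫ v := by
  simp only [chart, Category.assoc, pullback.lift_snd, pullbackSpecIso_inv_snd_assoc]
  rfl

instance isOpenImmersion_chart [IsOpenImmersion u] [IsOpenImmersion a] [IsOpenImmersion v] :
    IsOpenImmersion (chart p g u a v ha hv) := by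
  delta chart; infer_instance

theorem mem_range_chart [IsOpenImmersion u] [IsOpenImmersion a] [IsOpenImmersion v]
    (y : (pullback p g : Scheme.{u})) (h1 : pullback.fst p g y ∈ Set.range a)
    (h2 : pullback.snd p g y ∈ Set.range v) : y ∈ Set.range (chart p g u a v ha hv) := by
  obtain ⟨z, hz⟩ : y ∈ Set.range (pullback.map (Spec.map (CommRingCat.ofHom (algebraMap A B)))
      (Spec.map (CommRingCat.ofHom (algebraMap A A'))) p g a v u ha.symm hv.symm) := by
    rw [Scheme.Pullback.range_map]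
    exact ⟨h1, h2⟩
  obtain ⟨w, hw⟩ := (Scheme.homeoOfIso (pullbackSpecIso A B A')).symm.surjective z
  refine ⟨w, ?_⟩
  rw [← hz, ← hw]
  rfl

end Chart

theorem app_appLE_eq {W Z X : Scheme.{u}} (ζ : W ⟶ Z) (h : Z ⟶ X) (V : X.Opens) (U : W.Opens)
    (hle : U ≤ ζ ⁻¹ᵁ (h ⁻¹ᵁ V)) (t : Γ(X, V)) :
    ζ.appLE (h ⁻¹ᵁ V) U hle (h.app V t) = (ζ ≫ h).appLE V U hle t := by
  exact (ConcreteCategory.congr_hom (Scheme.Hom.comp_appLE ζ h V U hle) t).symm

/-- the element of a ring given by a section, through a morphism from its spectrum -/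
def sec {P : Scheme.{u}} {R : Type u} [CommRing R] (ω : Spec (.of R) ⟶ P) (V : P.Opens)
    (hle : ⊤ ≤ ω ⁻¹ᵁ V) : Γ(P, V) →+* R :=
  (ω.appLE V ⊤ hle ≫ (Scheme.ΓSpecIso (.of R)).hom).hom

theorem sec_eq_zero_iff {P : Scheme.{u}} {R : Type u} [CommRing R] (ω : Spec (.of R) ⟶ P)
    (V : P.Opens) (hle : ⊤ ≤ ω ⁻¹ᵁ V) (t : Γ(P, V)) :
    sec ω V hle t = 0 ↔ ω.appLE V ⊤ hle t = 0 :=
  ⟨fun h => (ConcreteCategory.bijective_of_isIso (Scheme.ΓSpecIso (.of R)).hom).1
    (h.trans (map_zero _).symm),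
   fun h => (congrArg (Scheme.ΓSpecIso (.of R)).hom h).trans (map_zero _)⟩

theorem sec_comp {P : Scheme.{u}} {R R' : Type u} [CommRing R] [CommRing R'] (ψ : R →+* R')
    (ω : Spec (.of R) ⟶ P) (V : P.Opens) (hle : ⊤ ≤ ω ⁻¹ᵁ V)
    (hle' : ⊤ ≤ (Spec.map (CommRingCat.ofHom ψ) ≫ ω) ⁻¹ᵁ V) (t : Γ(P, V)) :
    sec (Spec.map (CommRingCat.ofHom ψ) ≫ ω) V hle' t = ψ (sec ω V hle t) := by
  have h : (Spec.map (CommRingCat.ofHom ψ) ≫ ω).appLE V ⊤ hle' ≫ (Scheme.ΓSpecIso (.of R')).hom =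
      (ω.appLE V ⊤ hle ≫ (Scheme.ΓSpecIso (.of R)).hom) ≫ CommRingCat.ofHom ψ := by
    have h1 := Scheme.Hom.appLE_comp_appLE (Spec.map (CommRingCat.ofHom ψ)) ω V ⊤ ⊤ hle le_top
    rw [← h1, Category.assoc, Category.assoc]
    congr 1
    rw [← Scheme.ΓSpecIso_naturality]
    congr 1
  exact ConcreteCategory.congr_hom h t

theorem sec_congr {P : Scheme.{u}} {R : Type u} [CommRing R] {ω ω' : Spec (.of R) ⟶ P} (h : ω = ω')
    (V : P.Opens) (hle : ⊤ ≤ ω ⁻¹ᵁ V) (hle' : ⊤ ≤ ω' ⁻¹ᵁ V) (t : Γ(P, V)) :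
    sec ω V hle t = sec ω' V hle' t := by subst h; rfl

theorem sec_map_eq_zero {P Z : Scheme.{u}} {R R' : Type u} [CommRing R] [CommRing R'] (ψ : R →+* R')
    (ω : Spec (.of R) ⟶ P) (ζ : Spec (.of R') ⟶ Z) (h : Z ⟶ P)
    (e : ζ ≫ h = Spec.map (CommRingCat.ofHom ψ) ≫ ω) (V : P.Opens) (hle : ⊤ ≤ ω ⁻¹ᵁ V)
    (t : Γ(P, V)) (ht : h.app V t = 0) : ψ (sec ω V hle t) = 0 := by
  have hle' : ⊤ ≤ (Spec.map (CommRingCat.ofHom ψ) ≫ ω) ⁻¹ᵁ V := fun z _ =>
    hle (x := Spec.map (CommRingCat.ofHom ψ) z) trivial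
  rw [← sec_comp ψ ω V hle hle', sec_eq_zero_iff]
  exact appLE_eq_zero_of_fac _ ζ h e V t ht hle'

theorem exists_sec {P : Scheme.{u}} {R : Type u} [CommRing R] (ω : Spec (.of R) ⟶ P)
    [IsOpenImmersion ω] (r : R) :
    ∃ (hle : ⊤ ≤ ω ⁻¹ᵁ ω.opensRange) (t : Γ(P, ω.opensRange)), sec ω ω.opensRange hle t = r := by
  have hle : (⊤ : (Spec (.of R)).Opens) ≤ ω ⁻¹ᵁ ω.opensRange := fun z _ => ⟨z, rfl⟩
  refine ⟨hle, ?_⟩
  haveI : IsIso (ω.app ω.opensRange) := ω.isIso_app _ le_rfl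
  have h1 : ω ⁻¹ᵁ ω.opensRange = ⊤ := top_le_iff.1 hle
  haveI : IsIso (ω.appLE ω.opensRange ⊤ hle) := by
    rw [Scheme.Hom.appLE]
    haveI : IsIso (homOfLE hle).op := by
      have : IsIso (homOfLE hle) := ⟨⟨homOfLE h1.le, by simp, by simp⟩⟩
      infer_instance
    infer_instance
  exact (ConcreteCategory.bijective_of_isIso
    (ω.appLE ω.opensRange ⊤ hle ≫ (Scheme.ΓSpecIso (.of R)).hom)).2 r

theorem comp_awayMap {R R' : Type u} [CommRing R] [CommRing R'] (φ : R →+* R') (e : R) :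
    Spec.map (CommRingCat.ofHom (algebraMap R' (Localization.Away (φ e)))) ≫
      Spec.map (CommRingCat.ofHom φ) =
    Spec.map (CommRingCat.ofHom
        (IsLocalization.Away.map (Localization.Away e) (Localization.Away (φ e)) φ e)) ≫
      Spec.map (CommRingCat.ofHom (algebraMap R (Localization.Away e))) := by
  rw [← Spec.map_comp, ← Spec.map_comp, ← CommRingCat.ofHom_comp, ← CommRingCat.ofHom_comp,
    IsLocalization.Away.map, IsLocalization.map_comp]

section Affine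

variable {X Z S T : Scheme.{u}} (p : X ⟶ S) (f : Z ⟶ X) (g : T ⟶ S)
  {A B C A' : Type u} [CommRing A] [CommRing B] [CommRing C] [CommRing A']
  [Algebra A B] [Algebra A A'] [Algebra A C] [Algebra B C] [IsScalarTower A B C]
  (u : Spec (.of A) ⟶ S) (a : Spec (.of B) ⟶ X) (c : Spec (.of C) ⟶ Z) (v : Spec (.of A') ⟶ T)
  (ha : a ≫ p = Spec.map (CommRingCat.ofHom (algebraMap A B)) ≫ u)
  (hv : v ≫ g = Spec.map (CommRingCat.ofHom (algebraMap A A')) ≫ u)
  (hc : c ≫ f = Spec.map (CommRingCat.ofHom (algebraMap B C)) ≫ a)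

include ha hc in
theorem comp_str : c ≫ f ≫ p = Spec.map (CommRingCat.ofHom (algebraMap A C)) ≫ u := by
  rw [← Category.assoc, hc, Category.assoc, ha, ← Category.assoc, ← Spec.map_comp,
    ← CommRingCat.ofHom_comp, ← IsScalarTower.algebraMap_eq]

theorem chart_nat :
    chart (f ≫ p) g u c v (comp_str p f u a c ha hc) hv ≫
      pullback.map (f ≫ p) g p g f (𝟙 T) (𝟙 S) (Category.comp_id _)
        ((Category.comp_id _).trans (Category.id_comp _).symm) =
      Spec.map (CommRingCat.ofHom (Algebra.TensorProduct.map (IsScalarTower.toAlgHom A B C)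
          (AlgHom.id A A')).toRingHom) ≫ chart p g u a v ha hv := by
  apply pullback.hom_ext
  · rw [Category.assoc, pullback.lift_fst, chart_fst_assoc, hc, Category.assoc, chart_fst,
      ← Category.assoc, ← Category.assoc, ← Spec.map_comp, ← Spec.map_comp,
      ← CommRingCat.ofHom_comp, ← CommRingCat.ofHom_comp]
    congr 3
  · rw [Category.assoc, pullback.lift_snd, Category.comp_id, chart_snd, Category.assoc, chart_snd,
      ← Category.assoc, ← Spec.map_comp, ← CommRingCat.ofHom_comp]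
    congr 3
    ext t
    simp

end Affine

variable {X S : Scheme.{u}} (p : X ⟶ S) {ι : Type u} {Z : ι → Scheme.{u}} (f : ∀ i, Z i ⟶ X)

/-- the base change of the family along `g` -/
abbrev bc {T : Scheme.{u}} (g : T ⟶ S) (i : ι) : pullback (f i ≫ p) g ⟶ pullback p g :=
  pullback.map (f i ≫ p) g p g (f i) (𝟙 T) (𝟙 S) (Category.comp_id _)
    ((Category.comp_id _).trans (Category.id_comp _).symm)

theorem kill_of_dom {A B K : Type u} [CommRing A] [CommRing B] [CommRing K] [Algebra A B]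
    [Algebra A K] (u : Spec (.of A) ⟶ S) (a : Spec (.of B) ⟶ X) [IsOpenImmersion u] [IsOpenImmersion a]
    (ha : a ≫ p = Spec.map (CommRingCat.ofHom (algebraMap A B)) ≫ u)
    {J : Type u} (σ : J → ι) (C : J → Type u) [∀ j, CommRing (C j)] [∀ j, Algebra B (C j)]
    [∀ j, Algebra A (C j)] [∀ j, IsScalarTower A B (C j)]
    (c : ∀ j, Spec (.of (C j)) ⟶ Z (σ j)) [∀ j, IsOpenImmersion (c j)]
    (hc : ∀ j, c j ≫ f (σ j) = Spec.map (CommRingCat.ofHom (algebraMap B (C j))) ≫ a)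
    (hcov : ∀ i (z : Z i), f i z ∈ Set.range a →
      ∃ (j : J) (e : σ j = i), z ∈ Set.range (c j ≫ eqToHom (congrArg Z e)))
    (q : Spec (.of K) ⟶ S) (hq : q = Spec.map (CommRingCat.ofHom (algebraMap A K)) ≫ u)
    (hdom : ∀ (V : (pullback p q).Opens) (t : Γ(pullback p q, V)),
      (∀ i, (bc p f q i).app V t = 0) → t = 0)
    (γ b : B ⊗[A] K)
    (hb : ∀ j, ∃ m : ℕ, Algebra.TensorProduct.map (IsScalarTower.toAlgHom A B (C j))
      (AlgHom.id A K) (γ ^ m * b) = 0) :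
    ∃ m : ℕ, γ ^ m * b = 0 := by
  have hv : 𝟙 (Spec (.of K)) ≫ q = Spec.map (CommRingCat.ofHom (algebraMap A K)) ≫ u :=
    (Category.id_comp _).trans hq
  let χ := chart p q u a (𝟙 _) ha hv
  let loc := Spec.map (CommRingCat.ofHom (algebraMap (B ⊗[A] K) (Localization.Away γ)))
  haveI : IsOpenImmersion loc := IsOpenImmersion.of_isLocalization γ
  let ω := loc ≫ χ
  obtain ⟨hle, t, ht⟩ := exists_sec ω (algebraMap _ (Localization.Away γ) b)
  have h0 : t = 0 := hdom _ t fun i => by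
    refine eq_zero_of_local _ _ fun y hy => ?_
    obtain ⟨z₀, hz₀⟩ : bc p f q i y ∈ Set.range ω := hy
    have hfst : f i (pullback.fst (f i ≫ p) q y) = pullback.fst p q (bc p f q i y) := by
      rw [← Scheme.Hom.comp_apply, ← Scheme.Hom.comp_apply, pullback.lift_fst]
    obtain ⟨j, rfl, hz⟩ := hcov i (pullback.fst (f i ≫ p) q y) (by
      rw [hfst, ← hz₀, ← Scheme.Hom.comp_apply, Category.assoc, chart_fst]
      exact ⟨_, rfl⟩)
    simp only [eqToHom_refl, Category.comp_id] at hz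
    let φ := (Algebra.TensorProduct.map (IsScalarTower.toAlgHom A B (C j)) (AlgHom.id A K)).toRingHom
    let ζ := chart (f (σ j) ≫ p) q u (c j) (𝟙 _) (comp_str p (f (σ j)) u a (c j) ha (hc j)) hv
    obtain ⟨z₁, hz₁⟩ := mem_range_chart (f (σ j) ≫ p) q u (c j) (𝟙 _)
      (comp_str p (f (σ j)) u a (c j) ha (hc j)) hv y hz ⟨_, rfl⟩
    let locC := Spec.map (CommRingCat.ofHom (algebraMap (C j ⊗[A] K) (Localization.Away (φ γ))))
    haveI : IsOpenImmersion locC := IsOpenImmersion.of_isLocalization (φ γ)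
    let ψ := IsLocalization.Away.map (Localization.Away γ) (Localization.Away (φ γ)) φ γ
    have hfac : (locC ≫ ζ) ≫ bc p f q (σ j) = Spec.map (CommRingCat.ofHom ψ) ≫ ω := by
      rw [Category.assoc, chart_nat p (f (σ j)) q u a (c j) (𝟙 _) ha hv (hc j), ← Category.assoc,
        comp_awayMap φ γ, Category.assoc]
    have hle₁ : ⊤ ≤ (locC ≫ ζ) ⁻¹ᵁ (bc p f q (σ j) ⁻¹ᵁ ω.opensRange) := fun z _ => by
      show ((locC ≫ ζ) ≫ bc p f q (σ j)) z ∈ ω.opensRange
      rw [hfac]; exact ⟨_, rfl⟩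
    refine ⟨_, locC ≫ ζ, hle₁, inferInstance, ?_, ?_⟩
    · have h1 : χ (Spec.map (CommRingCat.ofHom φ) z₁) = χ (loc z₀) := by
        rw [← Scheme.Hom.comp_apply, ← Scheme.Hom.comp_apply,
          ← chart_nat p (f (σ j)) q u a (c j) (𝟙 _) ha hv (hc j), Scheme.Hom.comp_apply, hz₁]
        exact hz₀.symm
      have h2 : Spec.map (CommRingCat.ofHom φ) z₁ = loc z₀ := χ.isOpenEmbedding.injective h1
      have h3 := (PrimeSpectrum.localization_away_comap_range (Localization.Away γ) γ).le ⟨z₀, rfl⟩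
      change loc z₀ ∈ _ at h3
      rw [← h2] at h3
      obtain ⟨z₂, hz₂⟩ := (PrimeSpectrum.localization_away_comap_range
        (Localization.Away (φ γ)) (φ γ)).ge (show z₁ ∈ _ from h3)
      refine ⟨z₂, ?_⟩
      rw [← hz₁, ← hz₂]
      rfl
    · rw [app_appLE_eq, ← sec_eq_zero_iff ((locC ≫ ζ) ≫ bc p f q (σ j)) ω.opensRange hle₁]
      obtain ⟨m, hm⟩ := hb j
      have hψ : ψ (algebraMap _ (Localization.Away γ) b) = 0 := by
        simp only [ψ, IsLocalization.Away.map, IsLocalization.map_eq]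
        rw [IsLocalization.map_eq_zero_iff (Submonoid.powers (φ γ))]
        exact ⟨⟨φ γ ^ m, m, rfl⟩, (congrArg (· * φ b) (map_pow φ γ m).symm).trans ((map_mul φ _ _).symm.trans hm)⟩
      rw [← ht, ← sec_comp ψ ω _ hle (fun z _ => hle (x := Spec.map (CommRingCat.ofHom ψ) z) trivial)]
        at hψ
      exact (sec_congr hfac _ _ _ t).trans hψ
  rw [h0, map_zero] at ht
  obtain ⟨⟨_, m, rfl⟩, hm⟩ := (IsLocalization.map_eq_zero_iff (Submonoid.powers γ) _ _).1 ht.symm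
  exact ⟨m, hm⟩

theorem chart_kill {A B A' : Type u} [CommRing A] [CommRing B] [CommRing A'] [IsNoetherianRing B]
    [Algebra A B] [Algebra A A'] {T : Scheme.{u}} (g : T ⟶ S) (u : Spec (.of A) ⟶ S)
    (a : Spec (.of B) ⟶ X) (v : Spec (.of A') ⟶ T)
    (ha : a ≫ p = Spec.map (CommRingCat.ofHom (algebraMap A B)) ≫ u)
    (hv : v ≫ g = Spec.map (CommRingCat.ofHom (algebraMap A A')) ≫ u)
    {J : Type u} (σ : J → ι) (C : J → Type u) [∀ j, CommRing (C j)] [∀ j, Algebra B (C j)]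
    [∀ j, Algebra A (C j)] [∀ j, IsScalarTower A B (C j)] [∀ j, Module.Flat A (C j)]
    (c : ∀ j, Spec (.of (C j)) ⟶ Z (σ j))
    (hc : ∀ j, c j ≫ f (σ j) = Spec.map (CommRingCat.ofHom (algebraMap B (C j))) ≫ a)
    (hfibA : ∀ (P : Ideal A) [P.IsPrime] (γ b : B ⊗[A] P.ResidueField),
      (∀ j, ∃ m : ℕ, Algebra.TensorProduct.map (IsScalarTower.toAlgHom A B (C j))
        (AlgHom.id A P.ResidueField) (γ ^ m * b) = 0) → ∃ m : ℕ, γ ^ m * b = 0)
    (e : B ⊗[A] A') (V : (pullback p g).Opens)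
    (hle : ⊤ ≤ (Spec.map (CommRingCat.ofHom (algebraMap (B ⊗[A] A') (Localization.Away e))) ≫
      chart p g u a v ha hv) ⁻¹ᵁ V)
    (t : Γ(pullback p g, V)) (ht : ∀ i, (bc p f g i).app V t = 0) :
    (Spec.map (CommRingCat.ofHom (algebraMap (B ⊗[A] A') (Localization.Away e))) ≫
      chart p g u a v ha hv).appLE V ⊤ hle t = 0 := by
  rw [← sec_eq_zero_iff]
  obtain ⟨⟨x, ⟨_, k, rfl⟩⟩, hx⟩ := IsLocalization.surj (Submonoid.powers e)
    (sec _ V hle t : Localization.Away e)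
  obtain ⟨m, hm⟩ := fibrewise_algebra C hfibA e x
    (fun j => by
      let φ := (Algebra.TensorProduct.map (IsScalarTower.toAlgHom A B (C j))
          (AlgHom.id A A')).toRingHom
      let ψ := IsLocalization.Away.map (Localization.Away e) (Localization.Away (φ e)) φ e
      let ζ := Spec.map (CommRingCat.ofHom
        (algebraMap (C j ⊗[A] A') (Localization.Away (φ e)))) ≫
        chart (f (σ j) ≫ p) g u (c j) v (comp_str p (f (σ j)) u a (c j) ha (hc j)) hv
      have hfac : ζ ≫ bc p f g (σ j) = Spec.map (CommRingCat.ofHom ψ) ≫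
          (Spec.map (CommRingCat.ofHom (algebraMap (B ⊗[A] A') (Localization.Away e))) ≫
            chart p g u a v ha hv) := by
        rw [Category.assoc, chart_nat p (f (σ j)) g u a (c j) v ha hv (hc j), ← Category.assoc,
          comp_awayMap φ e, Category.assoc]
      have h0 := sec_map_eq_zero ψ _ ζ (bc p f g (σ j)) hfac V hle t (ht (σ j))
      have h2 := congrArg ψ hx
      rw [map_mul, h0, zero_mul] at h2
      simp only [ψ, IsLocalization.Away.map, IsLocalization.map_eq] at h2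
      obtain ⟨⟨_, m, rfl⟩, hm⟩ :=
        (IsLocalization.map_eq_zero_iff (Submonoid.powers (φ e)) _ _).1 h2.symm
      exact ⟨m, (map_mul φ _ _).trans ((congrArg (· * φ x) (map_pow φ e m)).trans hm)⟩)
  have h4 : algebraMap _ (Localization.Away e) x = 0 :=
    (IsLocalization.map_eq_zero_iff (Submonoid.powers e) _ _).2 ⟨⟨e ^ m, m, rfl⟩, hm⟩
  rw [h4] at hx
  exact (IsUnit.mul_left_eq_zero (IsLocalization.map_units _ (⟨_, k, rfl⟩ : Submonoid.powers e))).1 hx

theorem dom_of_fibres [IsLocallyNoetherian X] [∀ i, Flat (f i ≫ p)]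
    (hfib : ∀ (s : S) (V : (pullback p (S.fromSpecResidueField s)).Opens)
      (t : Γ(pullback p (S.fromSpecResidueField s), V)),
      (∀ i, (bc p f (S.fromSpecResidueField s) i).app V t = 0) → t = 0)
    {T : Scheme.{u}} (g : T ⟶ S) (V : (pullback p g).Opens) (t : Γ(pullback p g, V))
    (ht : ∀ i, (bc p f g i).app V t = 0) : t = 0 := by
  classical
  refine eq_zero_of_local V t fun y hy => ?_
  obtain ⟨US, hUS, hsU, -⟩ := exists_isAffineOpen_mem_and_subset (X := S) (U := ⊤)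
    (x := p (pullback.fst p g y)) trivial
  obtain ⟨UX, hUX, hxU, hUXle⟩ := exists_isAffineOpen_mem_and_subset (X := X)
    (U := p ⁻¹ᵁ US) (x := pullback.fst p g y) hsU
  have hyT : pullback.snd p g y ∈ g ⁻¹ᵁ US := by
    have := congr($(pullback.condition (f := p) (g := g)) y)
    show g (pullback.snd p g y) ∈ US
    simp only [Scheme.Hom.comp_apply] at this
    rw [← this]; exact hsU
  obtain ⟨UT, hUT, hyUT, hUTle⟩ := exists_isAffineOpen_mem_and_subset (X := T)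
    (U := g ⁻¹ᵁ US) (x := pullback.snd p g y) hyT
  letI := (p.appLE US UX hUXle).hom.toAlgebra
  letI := (g.appLE US UT hUTle).hom.toAlgebra
  have ha : hUX.fromSpec ≫ p =
      Spec.map (CommRingCat.ofHom (algebraMap Γ(S, US) Γ(X, UX))) ≫ hUS.fromSpec :=
    (hUS.SpecMap_appLE_fromSpec p hUX hUXle).symm
  have hv : hUT.fromSpec ≫ g =
      Spec.map (CommRingCat.ofHom (algebraMap Γ(S, US) Γ(T, UT))) ≫ hUS.fromSpec :=
    (hUS.SpecMap_appLE_fromSpec g hUT hUTle).symm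
  let χ := chart p g hUS.fromSpec hUX.fromSpec hUT.fromSpec ha hv
  obtain ⟨w, hw⟩ := mem_range_chart p g hUS.fromSpec hUX.fromSpec hUT.fromSpec ha hv y
    (by rw [hUX.range_fromSpec]; exact hxU) (by rw [hUT.range_fromSpec]; exact hyUT)
  haveI : IsLocallyNoetherian (Spec Γ(X, UX)) := isLocallyNoetherian_of_isOpenImmersion hUX.fromSpec
  haveI : IsNoetherianRing Γ(X, UX) := isLocallyNoetherian_Spec.1 ‹_›
  obtain ⟨_, ⟨_, ⟨e, rfl⟩, rfl⟩, hwe, hsub⟩ :=
    PrimeSpectrum.isBasis_basic_opens.exists_subset_of_mem_open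
      (show w ∈ ((χ ⁻¹ᵁ V : Opens _) : Set _) by show χ w ∈ V; rw [hw]; exact hy) (χ ⁻¹ᵁ V).2
  let ω : Spec (.of (Localization.Away e)) ⟶ pullback p g :=
    Spec.map (CommRingCat.ofHom (algebraMap _ (Localization.Away e))) ≫ χ
  haveI : IsOpenImmersion (Spec.map (CommRingCat.ofHom (algebraMap (Γ(X, UX) ⊗[Γ(S, US)] Γ(T, UT))
      (Localization.Away e)))) := IsOpenImmersion.of_isLocalization e
  have hle : (⊤ : (Spec (.of (Localization.Away e))).Opens) ≤ ω ⁻¹ᵁ V := fun z _ =>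
    hsub ((PrimeSpectrum.localization_away_comap_range (Localization.Away e) e).le ⟨z, rfl⟩)
  refine ⟨_, ω, hle, inferInstance, ?_, ?_⟩
  · obtain ⟨z, hz⟩ : w ∈ Set.range (PrimeSpectrum.comap (algebraMap _ (Localization.Away e))) := by
      rw [PrimeSpectrum.localization_away_comap_range (Localization.Away e) e]; exact hwe
    refine ⟨z, ?_⟩
    rw [← hw, ← hz]
    rfl
  let J : Type u := Σ i, { W : (Z i).affineOpens // W.1 ≤ (f i) ⁻¹ᵁ UX }
  letI : ∀ j : J, Algebra Γ(X, UX) Γ(Z j.1, j.2.1.1) := fun j =>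
    ((f j.1).appLE UX j.2.1.1 j.2.2).hom.toAlgebra
  letI : ∀ j : J, Algebra Γ(S, US) Γ(Z j.1, j.2.1.1) := fun j =>
    ((algebraMap Γ(X, UX) Γ(Z j.1, j.2.1.1)).comp (algebraMap Γ(S, US) Γ(X, UX))).toAlgebra
  haveI : ∀ j : J, IsScalarTower Γ(S, US) Γ(X, UX) Γ(Z j.1, j.2.1.1) := fun j =>
    IsScalarTower.of_algebraMap_eq fun _ => rfl
  haveI : ∀ j : J, Module.Flat Γ(S, US) Γ(Z j.1, j.2.1.1) := fun j => by
    have h1 : (f j.1 ≫ p).appLE US j.2.1.1 (j.2.2.trans ((f j.1).preimage_mono hUXle)) =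
        p.appLE US UX hUXle ≫ (f j.1).appLE UX j.2.1.1 j.2.2 := by
      exact (Scheme.Hom.appLE_comp_appLE (f j.1) p US UX _ hUXle j.2.2).symm
    have h2 : ((f j.1 ≫ p).appLE US j.2.1.1 (j.2.2.trans ((f j.1).preimage_mono hUXle))).hom.Flat :=
      HasRingHomProperty.appLE @Flat _ inferInstance ⟨US, hUS⟩ j.2.1 _
    rw [h1] at h2
    exact h2
  have hc : ∀ j : J, j.2.1.2.fromSpec ≫ f j.1 =
      Spec.map (CommRingCat.ofHom (algebraMap Γ(X, UX) Γ(Z j.1, j.2.1.1))) ≫ hUX.fromSpec :=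
    fun j => (hUX.SpecMap_appLE_fromSpec (f j.1) j.2.1.2 j.2.2).symm
  have hcp : ∀ j : J, j.2.1.2.fromSpec ≫ (f j.1 ≫ p) =
      Spec.map (CommRingCat.ofHom (algebraMap Γ(S, US) Γ(Z j.1, j.2.1.1))) ≫ hUS.fromSpec :=
    fun j => by
    rw [← Category.assoc, hc j, Category.assoc, ha, ← Category.assoc, ← Spec.map_comp]
    rfl
  have hcov : ∀ i (z : Z i), f i z ∈ Set.range hUX.fromSpec →
      ∃ (j : J) (e : j.1 = i), z ∈ Set.range (j.2.1.2.fromSpec ≫ eqToHom (congrArg Z e)) := by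
    intro i z hz
    rw [hUX.range_fromSpec] at hz
    obtain ⟨W, hW, hzW, hWle⟩ := exists_isAffineOpen_mem_and_subset (X := Z i)
      (U := (f i) ⁻¹ᵁ UX) (x := z) hz
    refine ⟨⟨i, ⟨W, hW⟩, hWle⟩, rfl, ?_⟩
    rw [eqToHom_refl, Category.comp_id]
    exact hW.range_fromSpec.ge hzW
  -- the fibres of the affine pieces
  have hfibA : ∀ (P : Ideal Γ(S, US)) [P.IsPrime] (γ b : Γ(X, UX) ⊗[Γ(S, US)] P.ResidueField),
      (∀ j : J, ∃ m : ℕ, Algebra.TensorProduct.map
        (IsScalarTower.toAlgHom Γ(S, US) Γ(X, UX) Γ(Z j.1, j.2.1.1))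
        (AlgHom.id Γ(S, US) P.ResidueField) (γ ^ m * b) = 0) → ∃ m : ℕ, γ ^ m * b = 0 := by
    intro P _ γ b hb
    let pt : Spec Γ(S, US) := ⟨P, inferInstance⟩
    let q0 : Spec (.of P.ResidueField) ⟶ S :=
      Spec.map (CommRingCat.ofHom (algebraMap Γ(S, US) P.ResidueField)) ≫ hUS.fromSpec
    let ν : Spec (.of P.ResidueField) ⟶ Spec (S.residueField (hUS.fromSpec pt)) :=
      Spec.map (Scheme.Spec.residueFieldIso Γ(S, US) pt).hom ≫ Spec.map (hUS.fromSpec.residueFieldMap pt)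
    have hν : ν ≫ S.fromSpecResidueField (hUS.fromSpec pt) = q0 := by
      simp only [ν, Category.assoc, Scheme.Hom.SpecMap_residueFieldMap_fromSpecResidueField, q0]
      rw [← Scheme.Spec.map_residueFieldIso_inv_eq_fromSpecResidueField, ← Category.assoc,
        ← Category.assoc]
      congr 1
      rw [← Spec.map_comp, ← Spec.map_comp]
      simp
    have hdom : ∀ (V₀ : (pullback p q0).Opens) (t₀ : Γ(pullback p q0, V₀)),
        (∀ i, (bc p f q0 i).app V₀ t₀ = 0) → t₀ = 0 := by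
      haveI : IsIso ν := inferInstance
      have hinv : S.fromSpecResidueField (hUS.fromSpec pt) ≫ 𝟙 S = inv ν ≫ q0 := by
        rw [Category.comp_id, ← hν, IsIso.inv_hom_id_assoc]
      let ε := pullback.map p (S.fromSpecResidueField (hUS.fromSpec pt)) p q0 (𝟙 X) (inv ν) (𝟙 S)
        (by simp) hinv
      refine transport (fun i => bc p f (S.fromSpecResidueField (hUS.fromSpec pt)) i)
        (fun i => bc p f q0 i) ε
        (fun i => pullback.map _ _ _ _ (𝟙 (Z i)) (inv ν) (𝟙 S) (by simp) hinv)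
        (fun i => ?_) (hfib _)
      apply pullback.hom_ext
      · dsimp only [ε, bc]
        simp only [Category.assoc, pullback.lift_fst]
        rw [pullback.lift_fst_assoc, pullback.lift_fst_assoc]
        simp
      · dsimp only [ε, bc]
        simp only [Category.assoc, pullback.lift_snd]
        rw [pullback.lift_snd_assoc, pullback.lift_snd_assoc]
        simp
    haveI : ∀ j : J, IsOpenImmersion j.2.1.2.fromSpec := fun j => j.2.1.2.isOpenImmersion_fromSpec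
    exact kill_of_dom p f hUS.fromSpec hUX.fromSpec ha (fun j : J => j.1)
      (fun j => (Γ(Z j.1, j.2.1.1) : Type u)) (fun j => j.2.1.2.fromSpec) hc hcov q0 rfl hdom γ b hb
  exact chart_kill p f g hUS.fromSpec hUX.fromSpec hUT.fromSpec ha hv (fun j : J => j.1)
    (fun j => (Γ(Z j.1, j.2.1.1) : Type u)) (fun j => j.2.1.2.fromSpec) hc hfibA e V hle t ht

end SchDomBCLib
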