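import Mathlib
import Groth.Agent.SchDomBC.FibDense
import Groth.Agent.SchDomBC.Scheme
import Groth.Prelude.Def_CInt

/-!
Universal schematic density of an open subscheme from density in the fibres (EGA IV 11.10.10).
-/

open CategoryTheory AlgebraicGeometry Limits TopologicalSpace
open scoped TensorProduct

set_option backward.isDefEq.respectTransparency false

noncomputable section

namespace SchDomBCLib

universe u

theorem dom_residue {X S : Scheme.{u}} (p : X ⟶ S) {ι : Type u} {Z : ι → Scheme.{u}} (f : ∀ i, Z i ⟶ X)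
    (hfib : ∀ (s : S) (V : (pullback p (S.fromSpecResidueField s)).Opens)
      (t : Γ(pullback p (S.fromSpecResidueField s), V)),
      (∀ i, (bc p f (S.fromSpecResidueField s) i).app V t = 0) → t = 0)
    {A : CommRingCat.{u}} (u₀ : Spec A ⟶ S) [IsOpenImmersion u₀] (P : Ideal A) [P.IsPrime]
    (V : (pullback p (Spec.map (CommRingCat.ofHom (algebraMap A P.ResidueField)) ≫ u₀)).Opens)
    (t : Γ(pullback p (Spec.map (CommRingCat.ofHom (algebraMap A P.ResidueField)) ≫ u₀), V))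
    (ht : ∀ i, (bc p f (Spec.map (CommRingCat.ofHom (algebraMap A P.ResidueField)) ≫ u₀) i).app V t = 0) :
    t = 0 := by
  let pt : Spec A := ⟨P, inferInstance⟩
  let q0 : Spec (.of P.ResidueField) ⟶ S :=
    Spec.map (CommRingCat.ofHom (algebraMap A P.ResidueField)) ≫ u₀
  let ν : Spec (.of P.ResidueField) ⟶ Spec (S.residueField (u₀ pt)) :=
    Spec.map (Scheme.Spec.residueFieldIso A pt).hom ≫ Spec.map (u₀.residueFieldMap pt)
  have hν : ν ≫ S.fromSpecResidueField (u₀ pt) = q0 := by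
    simp only [ν, Category.assoc, Scheme.Hom.SpecMap_residueFieldMap_fromSpecResidueField, q0]
    rw [← Scheme.Spec.map_residueFieldIso_inv_eq_fromSpecResidueField, ← Category.assoc,
      ← Category.assoc]
    congr 1
    rw [← Spec.map_comp, ← Spec.map_comp]
    simp [pt]
  haveI : IsIso ν := inferInstance
  have hinv : S.fromSpecResidueField (u₀ pt) ≫ 𝟙 S = inv ν ≫ q0 := by
    rw [Category.comp_id, ← hν, IsIso.inv_hom_id_assoc]
  let ε := pullback.map p (S.fromSpecResidueField (u₀ pt)) p q0 (𝟙 X) (inv ν) (𝟙 S) (by simp) hinv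
  refine transport (fun i => bc p f (S.fromSpecResidueField (u₀ pt)) i) (fun i => bc p f q0 i) ε
    (fun i => pullback.map _ _ _ _ (𝟙 (Z i)) (inv ν) (𝟙 S) (by simp) hinv)
    (fun i => ?_) (hfib _) V t ht
  apply pullback.hom_ext
  · dsimp only [ε, bc]
    simp only [Category.assoc, pullback.lift_fst]
    rw [pullback.lift_fst_assoc, pullback.lift_fst_assoc]
    simp
  · dsimp only [ε, bc]
    simp only [Category.assoc, pullback.lift_snd]
    rw [pullback.lift_snd_assoc, pullback.lift_snd_assoc]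
    simp

theorem eq_zero_field_base {K F K' : Type u} [Field K] [CommRing F] [Algebra K F] [IsNoetherianRing F]
    [Field K'] [Algebra K K'] (H : Set F)
    (hdom : ∀ g b : F, (∀ h ∈ H, ∃ m : ℕ, (h * g) ^ m * b = 0) → ∃ m : ℕ, g ^ m * b = 0)
    (e y : F ⊗[K] K') (hy : ∀ h ∈ H, ∃ m : ℕ, (h ⊗ₜ[K] (1 : K') * e) ^ m * y = 0) :
    ∃ m : ℕ, e ^ m * y = 0 := by
  let C : H → Type u := fun h => Localization.Away (h : F)
  refine fibrewise_algebra C ?_ e y fun j => ?_
  · intro p _ g b hb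
    have hbij : Function.Bijective (algebraMap K p.ResidueField) := by
      refine ⟨(algebraMap K p.ResidueField).injective, fun r => ?_⟩
      obtain ⟨⟨x, y⟩, hxy⟩ := IsLocalization.surj (nonZeroDivisors (K ⧸ p)) r
      obtain ⟨x, rfl⟩ := Ideal.Quotient.mk_surjective x
      obtain ⟨y', hy'⟩ := Ideal.Quotient.mk_surjective (y : K ⧸ p)
      refine ⟨x / y', ?_⟩
      have hy0 : y' ≠ 0 := fun h => nonZeroDivisors.ne_zero y.2 (by rw [← hy', h, map_zero])
      rw [map_div₀, div_eq_iff ((map_ne_zero _).2 hy0)]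
      rw [← hy', ← Ideal.Quotient.algebraMap_eq, ← IsScalarTower.algebraMap_apply,
        ← IsScalarTower.algebraMap_apply] at hxy
      exact hxy.symm
    let eκ : K ≃ₐ[K] p.ResidueField := AlgEquiv.ofBijective (Algebra.ofId K p.ResidueField) hbij
    let E : F ≃ₐ[K] F ⊗[K] p.ResidueField := (Algebra.TensorProduct.rid K K F).symm.trans
      (Algebra.TensorProduct.congr AlgEquiv.refl eκ)
    have hE : ∀ z, E z = z ⊗ₜ[K] (1 : p.ResidueField) := fun z => by simp [E]
    obtain ⟨g, rfl⟩ := E.surjective g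
    obtain ⟨b, rfl⟩ := E.surjective b
    obtain ⟨m, hm⟩ := hdom g b fun h hh => by
      obtain ⟨m, hm⟩ := hb ⟨h, hh⟩
      rw [← map_pow, ← map_mul, hE, Algebra.TensorProduct.map_tmul, map_one] at hm
      have hinj : Function.Injective (fun z : C ⟨h, hh⟩ => z ⊗ₜ[K] (1 : p.ResidueField)) :=
        fun u v huv => by
          have h1 := congrArg ((Algebra.TensorProduct.congr (AlgEquiv.refl : C ⟨h, hh⟩ ≃ₐ[K] _) eκ).symm) huv
          simpa using congrArg (Algebra.TensorProduct.rid K K (C ⟨h, hh⟩)) h1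
      have h0 : algebraMap F (C ⟨h, hh⟩) (g ^ m * b) = 0 := hinj (hm.trans (TensorProduct.zero_tmul _ _).symm)
      obtain ⟨⟨_, n, rfl⟩, hn⟩ := (IsLocalization.map_eq_zero_iff (Submonoid.powers (h : F)) _ _).1 h0
      exact ⟨n + m, by
        rw [mul_pow, pow_add, pow_add g n m]
        linear_combination (h ^ m * g ^ n) * hn⟩
    exact ⟨m, by rw [← map_pow, ← map_mul, hm, map_zero]⟩
  · obtain ⟨m, hm⟩ := hy j j.2
    refine ⟨m, ?_⟩
    have h1 := congrArg (Algebra.TensorProduct.map (IsScalarTower.toAlgHom K F (C j)) (AlgHom.id K K')) hm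
    rw [mul_pow, mul_assoc, map_mul, map_zero] at h1
    refine (IsUnit.mul_right_eq_zero ?_).1 h1
    rw [map_pow, Algebra.TensorProduct.map_tmul, map_one]
    exact ((IsLocalization.Away.algebraMap_isUnit (S := C j) _).map
      (Algebra.TensorProduct.includeLeft : C j →ₐ[K] C j ⊗[K] K')).pow m

theorem eq_zero_over_field {A B K' : Type u} [CommRing A] [CommRing B] [Algebra A B] [Field K']
    [Algebra A K'] [Algebra.FiniteType A B] (H : Set B) (P : Ideal A) [P.IsPrime]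
    (hP : P = RingHom.ker (algebraMap A K'))
    (hdom : ∀ g b : B ⊗[A] P.ResidueField,
      (∀ h ∈ H, ∃ m : ℕ, (h ⊗ₜ[A] (1 : P.ResidueField) * g) ^ m * b = 0) → ∃ m : ℕ, g ^ m * b = 0)
    (e y : B ⊗[A] K') (hy : ∀ h ∈ H, ∃ m : ℕ, (h ⊗ₜ[A] (1 : K') * e) ^ m * y = 0) :
    ∃ m : ℕ, e ^ m * y = 0 := by
  let K := P.ResidueField
  let ι : K →ₐ[A] K' := Ideal.ResidueField.liftₐ P (Algebra.ofId A K') hP.le
    (fun a ha => (show algebraMap A K' a ≠ 0 by
      have : a ∉ P := ha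
      rwa [hP] at this).isUnit)
  letI : Algebra K K' := ι.toRingHom.toAlgebra
  haveI : IsScalarTower A K K' := IsScalarTower.of_algebraMap_eq fun a => (ι.commutes a).symm
  haveI : IsNoetherianRing (K ⊗[A] B) := Algebra.FiniteType.isNoetherianRing K _
  let Ξ : B ⊗[A] K' ≃+* (K ⊗[A] B) ⊗[K] K' :=
    ((Algebra.TensorProduct.comm A B K').toRingEquiv.trans
      (Algebra.TensorProduct.cancelBaseChange A K K' K' B).symm.toRingEquiv).trans
      (Algebra.TensorProduct.comm K K' (K ⊗[A] B)).toRingEquiv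
  have hΞh : ∀ h : B, Ξ (h ⊗ₜ[A] (1 : K')) = ((1 : K) ⊗ₜ[A] h) ⊗ₜ[K] (1 : K') := fun h => by simp [Ξ]
  let cF : B ⊗[A] K ≃ₐ[A] K ⊗[A] B := Algebra.TensorProduct.comm A B K
  obtain ⟨m, hm⟩ := eq_zero_field_base ((fun h => (1 : K) ⊗ₜ[A] h) '' H) (fun g b hb => by
    obtain ⟨g, rfl⟩ := cF.surjective g
    obtain ⟨b, rfl⟩ := cF.surjective b
    obtain ⟨m, hm⟩ := hdom g b fun h hh => by
      obtain ⟨m, hm⟩ := hb _ ⟨h, hh, rfl⟩
      refine ⟨m, cF.injective ?_⟩
      rw [map_mul, map_pow, map_mul, map_zero]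
      exact hm
    exact ⟨m, by rw [← map_pow, ← map_mul, hm, map_zero]⟩) (Ξ e) (Ξ y) (by
    rintro _ ⟨h, hh, rfl⟩
    obtain ⟨m, hm⟩ := hy h hh
    refine ⟨m, ?_⟩
    rw [← hΞh, ← map_mul, ← map_pow, ← map_mul, hm, map_zero])
  exact ⟨m, Ξ.injective (by rw [map_mul, map_pow, hm, map_zero])⟩

theorem eq_zero_localized {A B A' : Type u} [CommRing A] [CommRing B] [CommRing A'] [Algebra A B]
    [Algebra A A'] [Algebra.FinitePresentation A B] [Module.Flat A B] (H : Set B)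
    (hdom : ∀ (P : Ideal A) [P.IsPrime] (g b : B ⊗[A] P.ResidueField),
      (∀ h ∈ H, ∃ m : ℕ, (h ⊗ₜ[A] (1 : P.ResidueField) * g) ^ m * b = 0) → ∃ m : ℕ, g ^ m * b = 0)
    (e : B ⊗[A] A') (x : Localization.Away e)
    (hx : ∀ h ∈ H, ∃ m : ℕ, algebraMap _ (Localization.Away e) (h ⊗ₜ[A] (1 : A')) ^ m * x = 0) :
    x = 0 := by
  letI : Algebra A' (B ⊗[A] A') := Algebra.TensorProduct.rightAlgebra
  haveI : IsScalarTower A A' (B ⊗[A] A') := Algebra.TensorProduct.right_isScalarTower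
  let R := Localization.Away e
  let ec : A' ⊗[A] B ≃ₐ[A'] B ⊗[A] A' :=
    { (Algebra.TensorProduct.comm A A' B).toRingEquiv with
      commutes' := fun a => by simp [Algebra.TensorProduct.right_algebraMap_apply] }
  haveI : Algebra.FinitePresentation A' (B ⊗[A] A') := Algebra.FinitePresentation.equiv ec
  haveI : Algebra.FinitePresentation (B ⊗[A] A') R := IsLocalization.Away.finitePresentation e
  haveI : Algebra.FinitePresentation A' R := Algebra.FinitePresentation.trans A' (B ⊗[A] A') R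
  haveI : Module.Flat A' (B ⊗[A] A') := Module.Flat.of_linearEquiv ec.symm.toLinearEquiv
  haveI : Module.Flat (B ⊗[A] A') R := IsLocalization.flat R (Submonoid.powers e)
  haveI : Module.Flat A' R := Module.Flat.trans A' (B ⊗[A] A') R
  refine eq_zero_of_fibres (A := A') ((fun h => algebraMap _ R (h ⊗ₜ[A] (1 : A'))) '' H) ?_ x ?_
  swap
  · rintro _ ⟨h, hh, rfl⟩
    exact hx h hh
  intro P' _ b hb
  let K' := P'.ResidueField
  let Φ : B ⊗[A] A' →ₐ[A] B ⊗[A] K' :=
    Algebra.TensorProduct.map (AlgHom.id A B) (IsScalarTower.toAlgHom A A' K')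
  let Ψ : B ⊗[A] K' →ₐ[A] K' ⊗[A'] R :=
    Algebra.TensorProduct.lift
      (((Algebra.TensorProduct.includeRight : R →ₐ[A'] K' ⊗[A'] R).restrictScalars A).comp
        ((IsScalarTower.toAlgHom A (B ⊗[A] A') R).comp Algebra.TensorProduct.includeLeft))
      (Algebra.TensorProduct.includeLeft : K' →ₐ[A] K' ⊗[A'] R)
      (fun _ _ => Commute.all _ _)
  have hΨ : ∀ z : B ⊗[A] A', Ψ (Φ z) = (1 : K') ⊗ₜ[A'] algebraMap _ R z := by
    intro z
    induction z using TensorProduct.induction_on with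
    | zero => simp
    | add u v hu hv => simp only [map_add, hu, hv, TensorProduct.tmul_add]
    | tmul c a =>
      simp only [Φ, Ψ, Algebra.TensorProduct.map_tmul, Algebra.TensorProduct.lift_tmul,
        AlgHom.comp_apply, AlgHom.coe_id, id_eq]
      show ((1 : K') ⊗ₜ[A'] algebraMap _ R (c ⊗ₜ[A] (1 : A'))) * ((algebraMap A' K' a) ⊗ₜ[A'] (1 : R)) = _
      rw [Algebra.TensorProduct.tmul_mul_tmul, one_mul, mul_one, Algebra.algebraMap_eq_smul_one,
        TensorProduct.smul_tmul, ← algebraMap_smul R a, smul_eq_mul,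
        IsScalarTower.algebraMap_apply A' (B ⊗[A] A') R, ← map_mul]
      congr 2
      simp [Algebra.TensorProduct.right_algebraMap_apply]
  let E := Localization.Away (Φ e)
  letI : Algebra A' (B ⊗[A] K') := (Φ.toRingHom.comp (algebraMap A' (B ⊗[A] A'))).toAlgebra
  let ΩR : R →+* E := IsLocalization.Away.map R E Φ.toRingHom e
  letI : Algebra A' E := (ΩR.comp (algebraMap A' R)).toAlgebra
  have hcomm : ∀ a : A', algebraMap A' E a =
      algebraMap (B ⊗[A] K') E ((1 : B) ⊗ₜ[A] algebraMap A' K' a) := fun a => by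
    show ΩR (algebraMap A' R a) = _
    rw [IsScalarTower.algebraMap_apply A' (B ⊗[A] A') R]
    simp [ΩR, IsLocalization.Away.map, Φ, Algebra.TensorProduct.right_algebraMap_apply]
  let Ω : K' ⊗[A'] R →ₐ[A'] E := Algebra.TensorProduct.productMap
    ({ toRingHom := (algebraMap (B ⊗[A] K') E).comp
        (Algebra.TensorProduct.includeRight : K' →ₐ[A] B ⊗[A] K').toRingHom
       commutes' := fun a => (hcomm a).symm } : K' →ₐ[A'] E)
    ({ toRingHom := ΩR, commutes' := fun a => rfl } : R →ₐ[A'] E)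
  have hΩ : ∀ z, Ω (Ψ z) = algebraMap _ E z := by
    intro z
    induction z using TensorProduct.induction_on with
    | zero => simp
    | add u v hu hv => simp only [map_add, hu, hv]
    | tmul c k =>
      simp [Ψ, Ω, ΩR, IsLocalization.Away.map, Φ, ← map_mul]
  have hu : IsUnit (Ψ (Φ e)) := by
    rw [hΨ]
    exact (IsLocalization.Away.algebraMap_isUnit (S := R) e).map
      (Algebra.TensorProduct.includeRight : R →ₐ[A'] K' ⊗[A'] R)
  obtain ⟨k, y, hky⟩ : ∃ (k : ℕ) (y : B ⊗[A] K'), Ψ (Φ e) ^ k * b = Ψ y := by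
    clear hb
    induction b using TensorProduct.induction_on with
    | zero => exact ⟨0, 0, by simp⟩
    | tmul c r =>
      obtain ⟨⟨z, _, k, rfl⟩, hz⟩ := IsLocalization.surj (Submonoid.powers e) r
      refine ⟨k, ((1 : B) ⊗ₜ c) * Φ z, ?_⟩
      have h1 : Ψ ((1 : B) ⊗ₜ c) = c ⊗ₜ[A'] (1 : R) := by
        simp [Ψ, ← Algebra.TensorProduct.one_def]
      rw [map_mul, h1, hΨ, hΨ, Algebra.TensorProduct.tmul_pow, one_pow,
        Algebra.TensorProduct.tmul_mul_tmul, Algebra.TensorProduct.tmul_mul_tmul, one_mul, mul_one,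
        one_mul, ← hz]
      simp [mul_comm]
    | add u v hu' hv' =>
      obtain ⟨k, y, hy⟩ := hu'
      obtain ⟨l, z, hz⟩ := hv'
      exact ⟨k + l, Φ e ^ l * y + Φ e ^ k * z, by
        rw [map_add, map_mul, map_mul, map_pow, map_pow, ← hy, ← hz]; ring⟩
  haveI : (RingHom.ker (algebraMap A K')).IsPrime := RingHom.ker_isPrime _
  obtain ⟨m, hm⟩ := eq_zero_over_field H (RingHom.ker (algebraMap A K')) rfl (hdom _) (Φ e) y
    fun h hh => by
      obtain ⟨m, hm⟩ := hb _ ⟨h, hh, rfl⟩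
      have h1 : ((1 : K') ⊗ₜ[A'] algebraMap _ R (h ⊗ₜ[A] (1 : A'))) = Ψ (h ⊗ₜ[A] (1 : K')) := by
        rw [← hΨ]; congr 1; simp [Φ]
      rw [h1] at hm
      have h2 : Ψ ((h ⊗ₜ[A] (1 : K')) ^ m * y) = 0 := by
        rw [map_mul, map_pow, ← hky, mul_left_comm, hm, mul_zero]
      have h3 := congrArg Ω h2
      rw [hΩ, map_zero] at h3
      obtain ⟨⟨_, n, rfl⟩, hn⟩ := (IsLocalization.map_eq_zero_iff (Submonoid.powers (Φ e)) E _).1 h3
      exact ⟨n + m, by
        rw [mul_pow, pow_add, pow_add (Φ e) n m]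
        linear_combination ((h ⊗ₜ[A] (1 : K')) ^ n * Φ e ^ m) * hn⟩
  have h4 := congrArg Ψ hm
  rw [map_mul, map_pow, ← hky, map_zero] at h4
  exact ((hu.pow k).mul_right_eq_zero).1 (((hu.pow m).mul_right_eq_zero).1 h4)

theorem dom_bc_of_dense {X S T : Scheme.{u}} (f : X ⟶ S) (U : X.Opens) (g : T ⟶ S)
    (hd : CInt.IsSchematicallyDense ((pullback.fst f g) ⁻¹ᵁ U))
    (V : (pullback f g).Opens) (t : Γ(pullback f g, V))
    (ht : ∀ i : PUnit.{u+1}, (bc f (Z := fun _ => U.toScheme) (fun _ => U.ι) g i).app V t = 0) :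
    t = 0 := by
  refine hd V ((?_ : _ = (0 : Γ(pullback f g, V ⊓ pullback.fst f g ⁻¹ᵁ U))).trans (map_zero _).symm)
  refine eq_zero_of_local _ _ fun y hy => ?_
  let b := bc f (Z := fun _ => U.toScheme) (fun _ => U.ι) g PUnit.unit
  haveI : IsOpenImmersion b := by dsimp only [b, bc]; infer_instance
  obtain ⟨w, hw⟩ : y ∈ Set.range b := by
    dsimp only [b, bc]
    rw [Scheme.Pullback.range_map]
    exact ⟨(Scheme.Opens.range_ι U).ge hy.2, ⟨_, rfl⟩⟩
  let W : Scheme.{u} := (b ⁻¹ᵁ V).toScheme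
  have hle : (⊤ : W.Opens) ≤ ((b ⁻¹ᵁ V).ι ≫ b) ⁻¹ᵁ (V ⊓ pullback.fst f g ⁻¹ᵁ U) := fun z _ =>
    ⟨z.2, by
      show (pullback.fst f g) (b ((b ⁻¹ᵁ V).ι z)) ∈ U
      rw [← Scheme.Hom.comp_apply b, show b ≫ pullback.fst f g = pullback.fst _ _ ≫ U.ι from
        pullback.lift_fst _ _ _]
      exact (Scheme.Opens.range_ι U).le ⟨_, rfl⟩⟩
  refine ⟨W, (b ⁻¹ᵁ V).ι ≫ b, hle, inferInstance, ⟨⟨w, show b w ∈ V by rw [hw]; exact hy.1⟩, hw⟩, ?_⟩
  rw [← CommRingCat.comp_apply, Scheme.Hom.map_appLE]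
  exact appLE_eq_zero_of_fac _ (b ⁻¹ᵁ V).ι b rfl V t (ht PUnit.unit) _

set_option maxHeartbeats 1600000 in
theorem dense_of_fibres {X S : Scheme.{u}} (f : X ⟶ S) [Flat f] [LocallyOfFinitePresentation f]
    (U : X.Opens) (hfib : ∀ s : S, CInt.IsSchematicallyDense ((f.fiberι s) ⁻¹ᵁ U))
    {T : Scheme.{u}} (g : T ⟶ S) : CInt.IsSchematicallyDense ((pullback.fst f g) ⁻¹ᵁ U) := by
  classical
  intro V
  rw [injective_iff_map_eq_zero]
  intro t ht
  refine eq_zero_of_local V t fun y hy => ?_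
  obtain ⟨US, hUS, hsU, -⟩ := exists_isAffineOpen_mem_and_subset (X := S) (U := ⊤)
    (x := f (pullback.fst f g y)) trivial
  obtain ⟨UX, hUX, hxU, hUXle⟩ := exists_isAffineOpen_mem_and_subset (X := X)
    (U := f ⁻¹ᵁ US) (x := pullback.fst f g y) hsU
  have hyT : pullback.snd f g y ∈ g ⁻¹ᵁ US := by
    have := congr($(pullback.condition (f := f) (g := g)) y)
    show g (pullback.snd f g y) ∈ US
    simp only [Scheme.Hom.comp_apply] at this
    rw [← this]; exact hsU
  obtain ⟨UT, hUT, hyUT, hUTle⟩ := exists_isAffineOpen_mem_and_subset (X := T)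
    (U := g ⁻¹ᵁ US) (x := pullback.snd f g y) hyT
  letI := (f.appLE US UX hUXle).hom.toAlgebra
  letI := (g.appLE US UT hUTle).hom.toAlgebra
  haveI : Algebra.FinitePresentation Γ(S, US) Γ(X, UX) :=
    HasRingHomProperty.appLE @LocallyOfFinitePresentation f inferInstance ⟨US, hUS⟩ ⟨UX, hUX⟩ hUXle
  haveI : Module.Flat Γ(S, US) Γ(X, UX) :=
    HasRingHomProperty.appLE @Flat f inferInstance ⟨US, hUS⟩ ⟨UX, hUX⟩ hUXle
  have ha : hUX.fromSpec ≫ f =
      Spec.map (CommRingCat.ofHom (algebraMap Γ(S, US) Γ(X, UX))) ≫ hUS.fromSpec :=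
    (hUS.SpecMap_appLE_fromSpec f hUX hUXle).symm
  have hv : hUT.fromSpec ≫ g =
      Spec.map (CommRingCat.ofHom (algebraMap Γ(S, US) Γ(T, UT))) ≫ hUS.fromSpec :=
    (hUS.SpecMap_appLE_fromSpec g hUT hUTle).symm
  let χ := chart f g hUS.fromSpec hUX.fromSpec hUT.fromSpec ha hv
  obtain ⟨w, hw⟩ := mem_range_chart f g hUS.fromSpec hUX.fromSpec hUT.fromSpec ha hv y
    (by rw [hUX.range_fromSpec]; exact hxU) (by rw [hUT.range_fromSpec]; exact hyUT)
  let H : Set Γ(X, UX) := {h | X.basicOpen h ≤ U}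
  have hdom : ∀ (P : Ideal Γ(S, US)) [P.IsPrime] (γ b : Γ(X, UX) ⊗[Γ(S, US)] P.ResidueField),
      (∀ h ∈ H, ∃ m : ℕ, (h ⊗ₜ[Γ(S, US)] (1 : P.ResidueField) * γ) ^ m * b = 0) →
        ∃ m : ℕ, γ ^ m * b = 0 := by
    intro P _ γ b hb
    have hlift : ∀ h : H, Set.range (Spec.map (CommRingCat.ofHom
        (algebraMap Γ(X, UX) (Localization.Away (h : Γ(X, UX))))) ≫ hUX.fromSpec) ⊆ Set.range U.ι := by
      rintro h _ ⟨z, rfl⟩
      rw [Scheme.Opens.range_ι]
      apply h.2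
      have h1 := hUX.fromSpec_image_basicOpen (h : Γ(X, UX))
      exact h1.le ⟨_, (PrimeSpectrum.localization_away_comap_range
        (Localization.Away (h : Γ(X, UX))) (h : Γ(X, UX))).le ⟨z, rfl⟩, rfl⟩
    letI : ∀ h : H, Algebra Γ(S, US) (Localization.Away (h : Γ(X, UX))) := fun h => inferInstance
    haveI : ∀ h : H, IsOpenImmersion (Spec.map (CommRingCat.ofHom
        (algebraMap Γ(X, UX) (Localization.Away (h : Γ(X, UX)))))) := fun h =>
      IsOpenImmersion.of_isLocalization (h : Γ(X, UX))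
    let c : ∀ h : H, Spec (.of (Localization.Away (h : Γ(X, UX)))) ⟶ U.toScheme := fun h =>
      IsOpenImmersion.lift U.ι _ (hlift h)
    haveI : ∀ h : H, IsOpenImmersion (c h) := fun h => by
      haveI : IsOpenImmersion (c h ≫ U.ι) := by
        rw [IsOpenImmersion.lift_fac]; infer_instance
      exact IsOpenImmersion.of_comp (c h) U.ι
    refine kill_of_dom f (Z := fun _ : PUnit.{u+1} => U.toScheme) (fun _ => U.ι) hUS.fromSpec
      hUX.fromSpec ha (fun _ : H => PUnit.unit) (fun h => Localization.Away (h : Γ(X, UX))) c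
      (fun h => IsOpenImmersion.lift_fac _ _ _) ?_ _ rfl ?_ γ b ?_
    · intro i z hz
      rw [hUX.range_fromSpec] at hz
      obtain ⟨h, hh, hzh⟩ := hUX.exists_basicOpen_le (V := U) ⟨U.ι z, z.2⟩ hz
      change U.ι z ∈ X.basicOpen h at hzh
      refine ⟨⟨h, hh⟩, rfl, ?_⟩
      simp only [eqToHom_refl, Category.comp_id]
      obtain ⟨q, hq, hqz⟩ := (hUX.fromSpec_image_basicOpen h).ge hzh
      obtain ⟨q', hq'⟩ := (PrimeSpectrum.localization_away_comap_range (Localization.Away h) h).ge hq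
      refine ⟨q', U.ι.isOpenEmbedding.injective ?_⟩
      rw [← Scheme.Hom.comp_apply, IsOpenImmersion.lift_fac, ← hqz, ← hq']
      rfl
    · exact dom_residue f (Z := fun _ : PUnit.{u+1} => U.toScheme) (fun _ => U.ι)
        (fun s => dom_bc_of_dense f U (S.fromSpecResidueField s) (hfib s)) hUS.fromSpec P
    · intro j
      obtain ⟨m, hm⟩ := hb j j.2
      refine ⟨m, ?_⟩
      rw [mul_pow, mul_assoc] at hm
      have h1 := congrArg (Algebra.TensorProduct.map (IsScalarTower.toAlgHom Γ(S, US) Γ(X, UX)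
        (Localization.Away (j : Γ(X, UX)))) (AlgHom.id Γ(S, US) P.ResidueField)) hm
      rw [map_mul, map_zero] at h1
      refine (IsUnit.mul_right_eq_zero ?_).1 h1
      rw [map_pow, Algebra.TensorProduct.map_tmul, map_one]
      exact ((IsLocalization.Away.algebraMap_isUnit (S := Localization.Away (j : Γ(X, UX))) _).map
        (Algebra.TensorProduct.includeLeft : Localization.Away (j : Γ(X, UX)) →ₐ[Γ(S, US)] _)).pow m
  obtain ⟨_, ⟨_, ⟨e, rfl⟩, rfl⟩, hwe, hsub⟩ :=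
    PrimeSpectrum.isBasis_basic_opens.exists_subset_of_mem_open
      (show w ∈ ((χ ⁻¹ᵁ V : Opens _) : Set _) by show χ w ∈ V; rw [hw]; exact hy) (χ ⁻¹ᵁ V).2
  let R := Localization.Away e
  let ω : Spec (.of R) ⟶ pullback f g := Spec.map (CommRingCat.ofHom (algebraMap _ R)) ≫ χ
  haveI : IsOpenImmersion (Spec.map (CommRingCat.ofHom (algebraMap (Γ(X, UX) ⊗[Γ(S, US)] Γ(T, UT)) R))) :=
    IsOpenImmersion.of_isLocalization e
  have hle : (⊤ : (Spec (.of R)).Opens) ≤ ω ⁻¹ᵁ V := fun z _ =>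
    hsub ((PrimeSpectrum.localization_away_comap_range R e).le ⟨z, rfl⟩)
  refine ⟨_, ω, hle, inferInstance, ?_, ?_⟩
  · obtain ⟨z, hz⟩ := (PrimeSpectrum.localization_away_comap_range R e).ge hwe
    refine ⟨z, ?_⟩
    rw [← hw, ← hz]
    rfl
  rw [← sec_eq_zero_iff]
  refine eq_zero_localized H hdom e _ fun h hh => ?_
  let h' : R := algebraMap _ R (h ⊗ₜ[Γ(S, US)] (1 : Γ(T, UT)))
  let ρ := algebraMap R (Localization.Away h')
  have hle' : ⊤ ≤ (Spec.map (CommRingCat.ofHom ρ) ≫ ω) ⁻¹ᵁ V := fun z _ =>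
    hle (x := Spec.map (CommRingCat.ofHom ρ) z) trivial
  have hle'' : ⊤ ≤ (Spec.map (CommRingCat.ofHom ρ) ≫ ω) ⁻¹ᵁ (V ⊓ pullback.fst f g ⁻¹ᵁ U) :=
    fun z hz => ⟨hle' hz, by
      show pullback.fst f g ((Spec.map (CommRingCat.ofHom ρ) ≫ ω) z) ∈ U
      rw [← Scheme.Hom.comp_apply, Category.assoc, Category.assoc, chart_fst]
      apply hh
      refine (hUX.fromSpec_image_basicOpen h).le ⟨_, ?_, rfl⟩
      exact (PrimeSpectrum.localization_away_comap_range (Localization.Away h') h').le ⟨z, rfl⟩⟩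
  have h0 : ρ (sec ω V hle t) = 0 := by
    rw [← sec_comp ρ ω V hle hle', sec_eq_zero_iff]
    have h1 := congrArg ((Spec.map (CommRingCat.ofHom ρ) ≫ ω).appLE _ ⊤ hle'') ht
    rw [map_zero, ← CommRingCat.comp_apply, Scheme.Hom.map_appLE] at h1
    exact h1
  obtain ⟨⟨_, m, rfl⟩, hm⟩ := (IsLocalization.map_eq_zero_iff (Submonoid.powers h') _ _).1 h0
  exact ⟨m, hm⟩

end SchDomBCLib
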