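import Mathlib
import Groth.Agent.SchDomBC.DenseOpen

/-!
Schematically dominant families stay so after flat finitely presented base change, and after any
base change over a field (EGA IV 11.10.5, 11.10.6).
-/

open CategoryTheory AlgebraicGeometry Limits TopologicalSpace
open scoped TensorProduct

set_option backward.isDefEq.respectTransparency false

noncomputable section

namespace SchDomBCLib

universe u

theorem affine_dom {X : Scheme.{u}} {ι : Type u} {Z : ι → Scheme.{u}} (f : ∀ i, Z i ⟶ X)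
    (h : ∀ (V : X.Opens) (t : Γ(X, V)), (∀ i, (f i).app V t = 0) → t = 0)
    {B : Type u} [CommRing B] (a : Spec (.of B) ⟶ X) [IsOpenImmersion a]
    {J : Type u} (σ : J → ι) (C : J → Type u) [∀ j, CommRing (C j)] [∀ j, Algebra B (C j)]
    (c : ∀ j, Spec (.of (C j)) ⟶ Z (σ j)) [∀ j, IsOpenImmersion (c j)]
    (hc : ∀ j, c j ≫ f (σ j) = Spec.map (CommRingCat.ofHom (algebraMap B (C j))) ≫ a)
    (hcov : ∀ i (z : Z i), f i z ∈ Set.range a →
      ∃ (j : J) (e : σ j = i), z ∈ Set.range (c j ≫ eqToHom (congrArg Z e)))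
    (g b : B) (hb : ∀ j, ∃ m : ℕ, algebraMap B (C j) (g ^ m * b) = 0) :
    ∃ m : ℕ, g ^ m * b = 0 := by
  let loc := Spec.map (CommRingCat.ofHom (algebraMap B (Localization.Away g)))
  haveI : IsOpenImmersion loc := IsOpenImmersion.of_isLocalization g
  let ω := loc ≫ a
  obtain ⟨hle, t, ht⟩ := exists_sec ω (algebraMap _ (Localization.Away g) b)
  have h0 : t = 0 := h _ t fun i => by
    refine eq_zero_of_local _ _ fun y hy => ?_
    obtain ⟨z₀, hz₀⟩ : f i y ∈ Set.range ω := hy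
    obtain ⟨j, rfl, hz⟩ := hcov i y ⟨loc z₀, hz₀⟩
    simp only [eqToHom_refl, Category.comp_id] at hz
    obtain ⟨z₁, hz₁⟩ := hz
    let φ := algebraMap B (C j)
    let locC := Spec.map (CommRingCat.ofHom (algebraMap (C j) (Localization.Away (φ g))))
    haveI : IsOpenImmersion locC := IsOpenImmersion.of_isLocalization (φ g)
    let ψ := IsLocalization.Away.map (Localization.Away g) (Localization.Away (φ g)) φ g
    have hfac : (locC ≫ c j) ≫ f (σ j) = Spec.map (CommRingCat.ofHom ψ) ≫ ω := by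
      rw [Category.assoc, hc j, ← Category.assoc, comp_awayMap φ g, Category.assoc]
    have hle₁ : ⊤ ≤ (locC ≫ c j) ⁻¹ᵁ (f (σ j) ⁻¹ᵁ ω.opensRange) := fun z _ => by
      show ((locC ≫ c j) ≫ f (σ j)) z ∈ ω.opensRange
      rw [hfac]; exact ⟨_, rfl⟩
    refine ⟨_, locC ≫ c j, hle₁, inferInstance, ?_, ?_⟩
    · have h1 : a (Spec.map (CommRingCat.ofHom φ) z₁) = a (loc z₀) := by
        rw [← Scheme.Hom.comp_apply, ← Scheme.Hom.comp_apply, ← hc j, Scheme.Hom.comp_apply, hz₁]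
        exact hz₀.symm
      have h2 : Spec.map (CommRingCat.ofHom φ) z₁ = loc z₀ := a.isOpenEmbedding.injective h1
      have h3 := (PrimeSpectrum.localization_away_comap_range (Localization.Away g) g).le ⟨z₀, rfl⟩
      change loc z₀ ∈ _ at h3
      rw [← h2] at h3
      obtain ⟨z₂, hz₂⟩ := (PrimeSpectrum.localization_away_comap_range
        (Localization.Away (φ g)) (φ g)).ge (show z₁ ∈ _ from h3)
      refine ⟨z₂, ?_⟩
      rw [← hz₁, ← hz₂]
      rfl
    · rw [app_appLE_eq, ← sec_eq_zero_iff ((locC ≫ c j) ≫ f (σ j)) ω.opensRange hle₁]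
      obtain ⟨m, hm⟩ := hb j
      have hψ : ψ (algebraMap _ (Localization.Away g) b) = 0 := by
        simp only [ψ, IsLocalization.Away.map, IsLocalization.map_eq]
        rw [IsLocalization.map_eq_zero_iff (Submonoid.powers (φ g))]
        exact ⟨⟨φ g ^ m, m, rfl⟩,
          (congrArg (· * φ b) (map_pow φ g m).symm).trans ((map_mul φ _ _).symm.trans hm)⟩
      rw [← ht, ← sec_comp ψ ω _ hle (fun z _ => hle (x := Spec.map (CommRingCat.ofHom ψ) z) trivial)]
        at hψ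
      exact (sec_congr hfac _ _ _ t).trans hψ
  rw [h0, map_zero] at ht
  obtain ⟨⟨_, m, rfl⟩, hm⟩ := (IsLocalization.map_eq_zero_iff (Submonoid.powers g) _ _).1 ht.symm
  exact ⟨m, hm⟩

set_option maxHeartbeats 800000 in
theorem eq_zero_flat_fp {B B' : Type u} [CommRing B] [CommRing B'] [Algebra B B']
    [Algebra.FinitePresentation B B'] [Module.Flat B B'] {J : Type u} (C : J → Type u)
    [∀ j, CommRing (C j)] [∀ j, Algebra B (C j)]
    (hdom : ∀ g b : B, (∀ j, ∃ m : ℕ, algebraMap B (C j) (g ^ m * b) = 0) → ∃ m : ℕ, g ^ m * b = 0)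
    (e x : B') (hx : ∀ j, ∃ m : ℕ, (1 : C j) ⊗ₜ[B] (e ^ m * x) = 0) : ∃ m : ℕ, e ^ m * x = 0 := by
  classical
  obtain ⟨B₁, _, _, _, B₁', _, _, _, _, eqv, hlift⟩ := exists_model B B' {e, x}
  obtain ⟨e₁, he⟩ := hlift e (by simp)
  obtain ⟨x₁, hx₁⟩ := hlift x (by simp)
  let B₀ := (algebraMap B₁ B).range
  -- replace the model base by its image
  letI : Algebra B₁ B₀ := (algebraMap B₁ B).rangeRestrict.toAlgebra
  haveI : IsScalarTower B₁ B₀ B := IsScalarTower.of_algebraMap_eq fun _ => rfl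
  haveI : IsNoetherianRing B₀ := inferInstance
  let D := B₀ ⊗[B₁] B₁'
  haveI : Algebra.FiniteType B₀ D := inferInstance
  let eq' : B ⊗[B₀] D ≃ₐ[B] B' := (Algebra.TensorProduct.cancelBaseChange B₁ B₀ B B B₁').trans eqv
  have hq : ∀ d, eq' (1 ⊗ₜ ((1 : B₀) ⊗ₜ d)) = eqv (1 ⊗ₜ d) := fun d => by
    show eqv (Algebra.TensorProduct.cancelBaseChange B₁ B₀ B B B₁' (1 ⊗ₜ ((1 : B₀) ⊗ₜ d))) = _
    rw [Algebra.TensorProduct.cancelBaseChange_tmul, one_smul]
  obtain ⟨m, hm⟩ := exists_pow_smul_eq_zero (B := B₀) C (fun j => 1) (fun g b hgb => by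
      obtain ⟨m, hm⟩ := hdom g.1 b.1 fun j => by
        obtain ⟨m, hm⟩ := hgb j
        refine ⟨m, ?_⟩
        rw [smul_smul, Algebra.smul_def, mul_one] at hm
        exact hm
      exact ⟨m, Subtype.ext hm⟩) D D ((1 : B₀) ⊗ₜ e₁) ((1 : B₀) ⊗ₜ x₁) (fun j => by
      obtain ⟨m, hm⟩ := hx j
      refine ⟨m, ?_⟩
      have h1 : (1 : C j) ⊗ₜ[B] (((1 : B) ⊗ₜ[B₀] ((1 : B₀) ⊗ₜ[B₁] e₁)) ^ m *
          ((1 : B) ⊗ₜ[B₀] ((1 : B₀) ⊗ₜ[B₁] x₁))) = 0 := by
        apply (TensorProduct.AlgebraTensorModule.congr (LinearEquiv.refl B (C j)) eq'.toLinearEquiv).injective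
        rw [map_zero, TensorProduct.AlgebraTensorModule.congr_tmul, LinearEquiv.refl_apply,
          AlgEquiv.toLinearEquiv_apply, map_mul, map_pow, hq, hq, he, hx₁]
        exact hm
      have h2 := congrArg (TensorProduct.AlgebraTensorModule.cancelBaseChange B₀ B B (C j) D) h1
      rw [map_zero, Algebra.TensorProduct.tmul_pow, Algebra.TensorProduct.tmul_mul_tmul, one_pow,
        one_mul, TensorProduct.AlgebraTensorModule.cancelBaseChange_tmul, one_smul] at h2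
      rw [smul_eq_mul]
      exact h2)
  refine ⟨m, ?_⟩
  have h3 := congrArg (fun d => eq' ((1 : B) ⊗ₜ[B₀] d)) hm
  simp only [smul_eq_mul, TensorProduct.tmul_zero, map_zero] at h3
  rw [← h3, ← he, ← hx₁, ← hq, ← hq, ← map_pow eq', ← map_mul eq', Algebra.TensorProduct.tmul_pow,
    Algebra.TensorProduct.tmul_mul_tmul, one_pow, one_mul]

theorem eq_zero_field_family {K F K' : Type u} [Field K] [CommRing F] [Algebra K F]
    [CommRing K'] [Algebra K K'] {J : Type u} (C : J → Type u) [∀ j, CommRing (C j)]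
    [∀ j, Algebra F (C j)] [∀ j, Algebra K (C j)] [∀ j, IsScalarTower K F (C j)]
    (hdom : ∀ g b : F, (∀ j, ∃ m : ℕ, algebraMap F (C j) (g ^ m * b) = 0) → ∃ m : ℕ, g ^ m * b = 0)
    (e y : F ⊗[K] K') (hy : ∀ j, ∃ m : ℕ,
      Algebra.TensorProduct.map (IsScalarTower.toAlgHom K F (C j)) (AlgHom.id K K') (e ^ m * y) = 0) :
    ∃ m : ℕ, e ^ m * y = 0 := by
  classical
  have hex : ∀ z : F ⊗[K] K', ∃ s : Finset F, ∀ T : Subalgebra K F, ↑s ⊆ (T : Set F) →
      ∃ z', Algebra.TensorProduct.map T.val (AlgHom.id K K') z' = z := by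
    intro z
    induction z using TensorProduct.induction_on with
    | zero => exact ⟨∅, fun T _ => ⟨0, map_zero _⟩⟩
    | tmul b t => exact ⟨{b}, fun T hT => ⟨⟨b, hT (Finset.mem_singleton_self b)⟩ ⊗ₜ t, rfl⟩⟩
    | add u v hu hv =>
      obtain ⟨s, hs⟩ := hu
      obtain ⟨s', hs'⟩ := hv
      refine ⟨s ∪ s', fun T hT => ?_⟩
      obtain ⟨u', rfl⟩ := hs T fun a ha => hT (Finset.mem_union_left _ ha)
      obtain ⟨v', rfl⟩ := hs' T fun a ha => hT (Finset.mem_union_right _ ha)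
      exact ⟨u' + v', map_add _ _ _⟩
  obtain ⟨se, hse⟩ := hex e
  obtain ⟨sy, hsy⟩ := hex y
  let T : Subalgebra K F := Algebra.adjoin K ↑(se ∪ sy)
  haveI : Algebra.FiniteType K T := T.fg_iff_finiteType.1 ⟨se ∪ sy, rfl⟩
  haveI : IsNoetherianRing T := Algebra.FiniteType.isNoetherianRing K T
  obtain ⟨e', rfl⟩ := hse T fun a ha => Algebra.subset_adjoin (Finset.mem_union_left _ ha)
  obtain ⟨y', rfl⟩ := hsy T fun a ha => Algebra.subset_adjoin (Finset.mem_union_right _ ha)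
  haveI : ∀ j, IsScalarTower K T (C j) := fun j => IsScalarTower.of_algebraMap_eq fun k => by
    rw [IsScalarTower.algebraMap_apply K F (C j)]; rfl
  have hfib : ∀ (p : Ideal K) [p.IsPrime] (g b : T ⊗[K] p.ResidueField),
      (∀ j, ∃ m : ℕ, Algebra.TensorProduct.map (IsScalarTower.toAlgHom K T (C j))
        (AlgHom.id K p.ResidueField) (g ^ m * b) = 0) → ∃ m : ℕ, g ^ m * b = 0 := by
    intro p _ g b hb
    have hbij : Function.Bijective (algebraMap K p.ResidueField) := by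
      refine ⟨(algebraMap K p.ResidueField).injective, fun r => ?_⟩
      obtain ⟨⟨x, y⟩, hxy⟩ := IsLocalization.surj (nonZeroDivisors (K ⧸ p)) r
      obtain ⟨x, rfl⟩ := Ideal.Quotient.mk_surjective x
      obtain ⟨y', hy'⟩ := Ideal.Quotient.mk_surjective (y : K ⧸ p)
      refine ⟨x / y', ?_⟩
      have hy0 : y' ≠ 0 := fun h => nonZeroDivisors.ne_zero y.2 (by rw [← hy', h, map_zero])
      rw [map_div₀, div_eq_iff ((map_ne_zero _).2 hy0)]
      rw [← hy', ← Ideal.Quotient.algebraMap_eq, ← IsScalarTower.algebraMap_apply,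
        ← IsScalarTower.algebraMap_apply] at hxy
      exact hxy.symm
    let eκ : K ≃ₐ[K] p.ResidueField := AlgEquiv.ofBijective (Algebra.ofId K p.ResidueField) hbij
    let E : T ≃ₐ[K] T ⊗[K] p.ResidueField := (Algebra.TensorProduct.rid K K T).symm.trans
      (Algebra.TensorProduct.congr AlgEquiv.refl eκ)
    have hE : ∀ z, E z = z ⊗ₜ[K] (1 : p.ResidueField) := fun z => by simp [E]
    obtain ⟨g, rfl⟩ := E.surjective g
    obtain ⟨b, rfl⟩ := E.surjective b
    obtain ⟨m, hm⟩ := hdom g.1 b.1 fun j => by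
      obtain ⟨m, hm⟩ := hb j
      rw [← map_pow, ← map_mul, hE, Algebra.TensorProduct.map_tmul, map_one] at hm
      refine ⟨m, ?_⟩
      have h1 := congrArg ((Algebra.TensorProduct.congr (AlgEquiv.refl : C j ≃ₐ[K] _) eκ).symm) hm
      have h2 := congrArg (Algebra.TensorProduct.rid K K (C j)) h1
      have h3 : algebraMap T (C j) (g ^ m * b) = 0 := by simpa using h2
      exact h3
    exact ⟨m, by rw [← map_pow, ← map_mul, show g ^ m * b = 0 from Subtype.ext hm, map_zero]⟩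
  obtain ⟨m, hm⟩ := fibrewise_algebra C hfib e' y' fun j => by
    obtain ⟨m, hm⟩ := hy j
    refine ⟨m, ?_⟩
    rw [← map_pow, ← map_mul, ← AlgHom.comp_apply, ← Algebra.TensorProduct.map_comp] at hm
    exact hm
  exact ⟨m, by rw [← map_pow, ← map_mul, hm, map_zero]⟩

theorem chart_kill' {X S T : Scheme.{u}} (p : X ⟶ S) {ι : Type u} {Z : ι → Scheme.{u}}
    (f : ∀ i, Z i ⟶ X) {A B A' : Type u} [CommRing A] [CommRing B] [CommRing A']
    [Algebra A B] [Algebra A A'] (g : T ⟶ S) (u : Spec (.of A) ⟶ S)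
    (a : Spec (.of B) ⟶ X) (v : Spec (.of A') ⟶ T)
    (ha : a ≫ p = Spec.map (CommRingCat.ofHom (algebraMap A B)) ≫ u)
    (hv : v ≫ g = Spec.map (CommRingCat.ofHom (algebraMap A A')) ≫ u)
    {J : Type u} (σ : J → ι) (C : J → Type u) [∀ j, CommRing (C j)] [∀ j, Algebra B (C j)]
    [∀ j, Algebra A (C j)] [∀ j, IsScalarTower A B (C j)]
    (c : ∀ j, Spec (.of (C j)) ⟶ Z (σ j))
    (hc : ∀ j, c j ≫ f (σ j) = Spec.map (CommRingCat.ofHom (algebraMap B (C j))) ≫ a)
    (halg : ∀ e y : B ⊗[A] A', (∀ j, ∃ m : ℕ, Algebra.TensorProduct.map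
      (IsScalarTower.toAlgHom A B (C j)) (AlgHom.id A A') (e ^ m * y) = 0) → ∃ m : ℕ, e ^ m * y = 0)
    (e : B ⊗[A] A') (V : (pullback p g).Opens)
    (hle : ⊤ ≤ (Spec.map (CommRingCat.ofHom (algebraMap (B ⊗[A] A') (Localization.Away e))) ≫
      chart p g u a v ha hv) ⁻¹ᵁ V)
    (t : Γ(pullback p g, V)) (ht : ∀ i, (bc p f g i).app V t = 0) :
    (Spec.map (CommRingCat.ofHom (algebraMap (B ⊗[A] A') (Localization.Away e))) ≫
      chart p g u a v ha hv).appLE V ⊤ hle t = 0 := by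
  rw [← sec_eq_zero_iff]
  obtain ⟨⟨x, ⟨_, k, rfl⟩⟩, hx⟩ := IsLocalization.surj (Submonoid.powers e)
    (sec _ V hle t : Localization.Away e)
  obtain ⟨m, hm⟩ := halg e x
    (fun j => by
      let φ := (Algebra.TensorProduct.map (IsScalarTower.toAlgHom A B (C j))
          (AlgHom.id A A')).toRingHom
      let ψ := IsLocalization.Away.map (Localization.Away e) (Localization.Away (φ e)) φ e
      let ζ := Spec.map (CommRingCat.ofHom
        (algebraMap (C j ⊗[A] A') (Localization.Away (φ e)))) ≫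
        chart (f (σ j) ≫ p) g u (c j) v (comp_str p (f (σ j)) u a (c j) ha (hc j)) hv
      have hfac : ζ ≫ bc p f g (σ j) = Spec.map (CommRingCat.ofHom ψ) ≫
          (Spec.map (CommRingCat.ofHom (algebraMap (B ⊗[A] A') (Localization.Away e))) ≫
            chart p g u a v ha hv) := by
        rw [Category.assoc, chart_nat p (f (σ j)) g u a (c j) v ha hv (hc j), ← Category.assoc,
          comp_awayMap φ e, Category.assoc]
      have h0 := sec_map_eq_zero ψ _ ζ (bc p f g (σ j)) hfac V hle t (ht (σ j))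
      have h2 := congrArg ψ hx
      rw [map_mul, h0, zero_mul] at h2
      simp only [ψ, IsLocalization.Away.map, IsLocalization.map_eq] at h2
      obtain ⟨⟨_, m, rfl⟩, hm⟩ :=
        (IsLocalization.map_eq_zero_iff (Submonoid.powers (φ e)) _ _).1 h2.symm
      exact ⟨m, (map_mul φ _ _).trans ((congrArg (· * φ x) (map_pow φ e m)).trans hm)⟩)
  have h4 : algebraMap _ (Localization.Away e) x = 0 :=
    (IsLocalization.map_eq_zero_iff (Submonoid.powers e) _ _).2 ⟨⟨e ^ m, m, rfl⟩, hm⟩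
  rw [h4] at hx
  exact (IsUnit.mul_left_eq_zero (IsLocalization.map_units _ (⟨_, k, rfl⟩ : Submonoid.powers e))).1 hx

section Main

variable {X : Scheme.{u}} {ι : Type u} {Z : ι → Scheme.{u}} (f : ∀ i, Z i ⟶ X)
  (h : ∀ (V : X.Opens) (t : Γ(X, V)), (∀ i, (f i).app V t = 0) → t = 0)

include h in
set_option maxHeartbeats 1600000 in
theorem dom_baseChange_flat {X' : Scheme.{u}} (g : X' ⟶ X) [Flat g] [LocallyOfFinitePresentation g]
    (V : X'.Opens) (t : Γ(X', V)) (ht : ∀ i, (pullback.snd (f i) g).app V t = 0) : t = 0 := by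
  classical
  refine eq_zero_of_local V t fun y hy => ?_
  obtain ⟨UX, hUX, hxU, -⟩ := exists_isAffineOpen_mem_and_subset (X := X) (U := ⊤) (x := g y) trivial
  obtain ⟨UT, hUT, hyUT, hUTle⟩ := exists_isAffineOpen_mem_and_subset (X := X')
    (U := g ⁻¹ᵁ UX) (x := y) hxU
  letI := (g.appLE UX UT hUTle).hom.toAlgebra
  haveI : Algebra.FinitePresentation Γ(X, UX) Γ(X', UT) :=
    HasRingHomProperty.appLE @LocallyOfFinitePresentation g inferInstance ⟨UX, hUX⟩ ⟨UT, hUT⟩ hUTle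
  haveI : Module.Flat Γ(X, UX) Γ(X', UT) :=
    HasRingHomProperty.appLE @Flat g inferInstance ⟨UX, hUX⟩ ⟨UT, hUT⟩ hUTle
  have hv : hUT.fromSpec ≫ g =
      Spec.map (CommRingCat.ofHom (algebraMap Γ(X, UX) Γ(X', UT))) ≫ hUX.fromSpec :=
    (hUX.SpecMap_appLE_fromSpec g hUT hUTle).symm
  obtain ⟨w, hw⟩ : y ∈ Set.range hUT.fromSpec := by rw [hUT.range_fromSpec]; exact hyUT
  obtain ⟨_, ⟨_, ⟨e, rfl⟩, rfl⟩, hwe, hsub⟩ :=
    PrimeSpectrum.isBasis_basic_opens.exists_subset_of_mem_open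
      (show w ∈ ((hUT.fromSpec ⁻¹ᵁ V : Opens _) : Set _) by show hUT.fromSpec w ∈ V; rw [hw]; exact hy)
      (hUT.fromSpec ⁻¹ᵁ V).2
  let R := Localization.Away e
  let ω : Spec (.of R) ⟶ X' := Spec.map (CommRingCat.ofHom (algebraMap _ R)) ≫ hUT.fromSpec
  haveI : IsOpenImmersion (Spec.map (CommRingCat.ofHom (algebraMap Γ(X', UT) R))) :=
    IsOpenImmersion.of_isLocalization e
  have hle : (⊤ : (Spec (.of R)).Opens) ≤ ω ⁻¹ᵁ V := fun z _ =>
    hsub ((PrimeSpectrum.localization_away_comap_range R e).le ⟨z, rfl⟩)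
  refine ⟨_, ω, hle, inferInstance, ?_, ?_⟩
  · obtain ⟨z, hz⟩ := (PrimeSpectrum.localization_away_comap_range R e).ge hwe
    refine ⟨z, ?_⟩
    rw [← hw, ← hz]
    rfl
  rw [← sec_eq_zero_iff]
  let J : Type u := Σ i, { W : (Z i).affineOpens // W.1 ≤ (f i) ⁻¹ᵁ UX }
  letI : ∀ j : J, Algebra Γ(X, UX) Γ(Z j.1, j.2.1.1) := fun j =>
    ((f j.1).appLE UX j.2.1.1 j.2.2).hom.toAlgebra
  have hc : ∀ j : J, j.2.1.2.fromSpec ≫ f j.1 =
      Spec.map (CommRingCat.ofHom (algebraMap Γ(X, UX) Γ(Z j.1, j.2.1.1))) ≫ hUX.fromSpec :=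
    fun j => (hUX.SpecMap_appLE_fromSpec (f j.1) j.2.1.2 j.2.2).symm
  haveI : ∀ j : J, IsOpenImmersion j.2.1.2.fromSpec := fun j => j.2.1.2.isOpenImmersion_fromSpec
  have hcov : ∀ i (z : Z i), f i z ∈ Set.range hUX.fromSpec →
      ∃ (j : J) (e : j.1 = i), z ∈ Set.range (j.2.1.2.fromSpec ≫ eqToHom (congrArg Z e)) := by
    intro i z hz
    rw [hUX.range_fromSpec] at hz
    obtain ⟨W, hW, hzW, hWle⟩ := exists_isAffineOpen_mem_and_subset (X := Z i)
      (U := (f i) ⁻¹ᵁ UX) (x := z) hz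
    refine ⟨⟨i, ⟨W, hW⟩, hWle⟩, rfl, ?_⟩
    rw [eqToHom_refl, Category.comp_id]
    exact hW.range_fromSpec.ge hzW
  obtain ⟨⟨x, ⟨_, k, rfl⟩⟩, hx⟩ := IsLocalization.surj (Submonoid.powers e) (sec ω V hle t : R)
  obtain ⟨m, hm⟩ := eq_zero_flat_fp (fun j : J => (Γ(Z j.1, j.2.1.1) : Type u))
    (affine_dom f h hUX.fromSpec (fun j : J => j.1) _ (fun j => j.2.1.2.fromSpec) hc hcov) e x
    (fun j => by
      let φ := (Algebra.TensorProduct.includeRight :
        Γ(X', UT) →ₐ[Γ(X, UX)] Γ(Z j.1, j.2.1.1) ⊗[Γ(X, UX)] Γ(X', UT)).toRingHom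
      let ψ := IsLocalization.Away.map R (Localization.Away (φ e)) φ e
      let ζ := Spec.map (CommRingCat.ofHom (algebraMap _ (Localization.Away (φ e)))) ≫
        chart (f j.1) g hUX.fromSpec j.2.1.2.fromSpec hUT.fromSpec (hc j) hv
      have hfac : ζ ≫ pullback.snd (f j.1) g = Spec.map (CommRingCat.ofHom ψ) ≫ ω := by
        rw [Category.assoc, chart_snd, ← Category.assoc, comp_awayMap φ e, Category.assoc]
      have h0 := sec_map_eq_zero ψ ω ζ (pullback.snd (f j.1) g) hfac V hle t (ht j.1)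
      have h2 := congrArg ψ hx
      rw [map_mul, h0, zero_mul] at h2
      simp only [ψ, IsLocalization.Away.map, IsLocalization.map_eq] at h2
      obtain ⟨⟨_, m, rfl⟩, hm⟩ :=
        (IsLocalization.map_eq_zero_iff (Submonoid.powers (φ e)) _ _).1 h2.symm
      exact ⟨m, (map_mul φ _ _).trans ((congrArg (· * φ x) (map_pow φ e m)).trans hm)⟩)
  have h4 : algebraMap _ R x = 0 :=
    (IsLocalization.map_eq_zero_iff (Submonoid.powers e) _ _).2 ⟨⟨e ^ m, m, rfl⟩, hm⟩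
  rw [h4] at hx
  exact (IsUnit.mul_left_eq_zero (IsLocalization.map_units _ (⟨_, k, rfl⟩ : Submonoid.powers e))).1 hx

include h in
set_option maxHeartbeats 1600000 in
theorem dom_baseChange_field {k : Type u} [Field k] (p : X ⟶ Spec (.of k)) {T : Scheme.{u}}
    (g : T ⟶ Spec (.of k)) (V : (pullback p g).Opens) (t : Γ(pullback p g, V))
    (ht : ∀ i, (bc p f g i).app V t = 0) : t = 0 := by
  classical
  refine eq_zero_of_local V t fun y hy => ?_
  obtain ⟨UX, hUX, hxU, -⟩ := exists_isAffineOpen_mem_and_subset (X := X) (U := ⊤)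
    (x := pullback.fst p g y) trivial
  obtain ⟨UT, hUT, hyUT, -⟩ := exists_isAffineOpen_mem_and_subset (X := T) (U := ⊤)
    (x := pullback.snd p g y) trivial
  letI : Algebra k Γ(X, UX) := (Spec.preimage (hUX.fromSpec ≫ p)).hom.toAlgebra
  letI : Algebra k Γ(T, UT) := (Spec.preimage (hUT.fromSpec ≫ g)).hom.toAlgebra
  have ha : hUX.fromSpec ≫ p = Spec.map (CommRingCat.ofHom (algebraMap k Γ(X, UX))) ≫ 𝟙 _ :=
    (Spec.map_preimage _).symm.trans (Category.comp_id _).symm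
  have hv : hUT.fromSpec ≫ g = Spec.map (CommRingCat.ofHom (algebraMap k Γ(T, UT))) ≫ 𝟙 _ :=
    (Spec.map_preimage _).symm.trans (Category.comp_id _).symm
  let χ := chart p g (𝟙 _) hUX.fromSpec hUT.fromSpec ha hv
  obtain ⟨w, hw⟩ := mem_range_chart p g (𝟙 _) hUX.fromSpec hUT.fromSpec ha hv y
    (by rw [hUX.range_fromSpec]; exact hxU) (by rw [hUT.range_fromSpec]; exact hyUT)
  obtain ⟨_, ⟨_, ⟨e, rfl⟩, rfl⟩, hwe, hsub⟩ :=
    PrimeSpectrum.isBasis_basic_opens.exists_subset_of_mem_open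
      (show w ∈ ((χ ⁻¹ᵁ V : Opens _) : Set _) by show χ w ∈ V; rw [hw]; exact hy) (χ ⁻¹ᵁ V).2
  let R := Localization.Away e
  let ω : Spec (.of R) ⟶ pullback p g := Spec.map (CommRingCat.ofHom (algebraMap _ R)) ≫ χ
  haveI : IsOpenImmersion (Spec.map (CommRingCat.ofHom (algebraMap (Γ(X, UX) ⊗[k] Γ(T, UT)) R))) :=
    IsOpenImmersion.of_isLocalization e
  have hle : (⊤ : (Spec (.of R)).Opens) ≤ ω ⁻¹ᵁ V := fun z _ =>
    hsub ((PrimeSpectrum.localization_away_comap_range R e).le ⟨z, rfl⟩)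
  refine ⟨_, ω, hle, inferInstance, ?_, ?_⟩
  · obtain ⟨z, hz⟩ := (PrimeSpectrum.localization_away_comap_range R e).ge hwe
    refine ⟨z, ?_⟩
    rw [← hw, ← hz]
    rfl
  let J : Type u := Σ i, { W : (Z i).affineOpens // W.1 ≤ (f i) ⁻¹ᵁ UX }
  letI : ∀ j : J, Algebra Γ(X, UX) Γ(Z j.1, j.2.1.1) := fun j =>
    ((f j.1).appLE UX j.2.1.1 j.2.2).hom.toAlgebra
  letI : ∀ j : J, Algebra k Γ(Z j.1, j.2.1.1) := fun j =>
    ((algebraMap Γ(X, UX) Γ(Z j.1, j.2.1.1)).comp (algebraMap k Γ(X, UX))).toAlgebra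
  haveI : ∀ j : J, IsScalarTower k Γ(X, UX) Γ(Z j.1, j.2.1.1) := fun j =>
    IsScalarTower.of_algebraMap_eq fun _ => rfl
  have hc : ∀ j : J, j.2.1.2.fromSpec ≫ f j.1 =
      Spec.map (CommRingCat.ofHom (algebraMap Γ(X, UX) Γ(Z j.1, j.2.1.1))) ≫ hUX.fromSpec :=
    fun j => (hUX.SpecMap_appLE_fromSpec (f j.1) j.2.1.2 j.2.2).symm
  haveI : ∀ j : J, IsOpenImmersion j.2.1.2.fromSpec := fun j => j.2.1.2.isOpenImmersion_fromSpec
  have hcov : ∀ i (z : Z i), f i z ∈ Set.range hUX.fromSpec →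
      ∃ (j : J) (e : j.1 = i), z ∈ Set.range (j.2.1.2.fromSpec ≫ eqToHom (congrArg Z e)) := by
    intro i z hz
    rw [hUX.range_fromSpec] at hz
    obtain ⟨W, hW, hzW, hWle⟩ := exists_isAffineOpen_mem_and_subset (X := Z i)
      (U := (f i) ⁻¹ᵁ UX) (x := z) hz
    refine ⟨⟨i, ⟨W, hW⟩, hWle⟩, rfl, ?_⟩
    rw [eqToHom_refl, Category.comp_id]
    exact hW.range_fromSpec.ge hzW
  exact chart_kill' p f g (𝟙 _) hUX.fromSpec hUT.fromSpec ha hv (fun j : J => j.1)
    (fun j => (Γ(Z j.1, j.2.1.1) : Type u)) (fun j => j.2.1.2.fromSpec) hc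
    (eq_zero_field_family _ (affine_dom f h hUX.fromSpec (fun j : J => j.1) _
      (fun j => j.2.1.2.fromSpec) hc hcov)) e V hle t ht

end Main

end SchDomBCLib
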